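import Mathlib

set_option autoImplicit false

namespace Cfsg.Agent.H52

section Off

variable {H V : Type*} [Group H] [CommGroup V]

/-- The commutator map `v ↦ ρ(k)v · v⁻¹` of an action by automorphisms on an abelian group. -/
def commHom (ρ : H →* MulAut V) (k : H) : V →* V := (ρ k).toMonoidHom / MonoidHom.id V

theorem commHom_apply (ρ : H →* MulAut V) (k : H) (v : V) : commHom ρ k v = ρ k v / v := rfl

/-- The fixed points of a subgroup. -/
def fixV (ρ : H →* MulAut V) (B : Subgroup H) : Subgroup V where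
  carrier := {v | ∀ b ∈ B, ρ b v = v}
  mul_mem' := fun hx hy b hb => by rw [map_mul, hx b hb, hy b hb]
  one_mem' := fun b _ => map_one _
  inv_mem' := fun hx b hb => by rw [map_inv, hx b hb]

theorem mem_fixV (ρ : H →* MulAut V) (B : Subgroup H) (v : V) :
    v ∈ fixV ρ B ↔ ∀ b ∈ B, ρ b v = v := Iff.rfl

/-- A commutator `[v, k]` fixed by an element `k` of odd order is trivial (exponent two). -/
theorem comm_fixed_eq_one (ρ : H →* MulAut V) (hV2 : ∀ v : V, v * v = 1) (k : H)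
    (hk : ¬ 2 ∣ orderOf k) (v : V) (hw : ρ k (ρ k v / v) = ρ k v / v) : ρ k v / v = 1 := by
  set w := ρ k v / v with hw'
  have hkv : ρ k v = w * v := by rw [hw']; simp
  have hpow : ∀ n : ℕ, ρ (k ^ n) v = w ^ n * v := by
    intro n
    induction n with
    | zero => simp
    | succ n ih =>
      rw [pow_succ', map_mul, MulAut.mul_apply, ih, map_mul, map_pow, hw, hkv, pow_succ, mul_assoc]
  have h1 := hpow (orderOf k)
  rw [pow_orderOf_eq_one, map_one, MulAut.one_apply] at h1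
  have h2 : w ^ orderOf k = 1 := by
    have : w ^ orderOf k * v = 1 * v := by rw [one_mul]; exact h1.symm
    exact mul_right_cancel this
  obtain ⟨j, hj⟩ : ∃ j, orderOf k = 2 * j + 1 := ⟨orderOf k / 2, by omega⟩
  rw [hj, pow_succ, pow_mul, pow_two, hV2, one_pow, one_mul] at h2
  exact h2

theorem fixed_of_sq_fixed (ρ : H →* MulAut V) (k : H) (hk : ¬ 2 ∣ orderOf k) (w : V)
    (h : ρ (k * k) w = w) : ρ k w = w := by
  obtain ⟨j, hj⟩ : ∃ j, orderOf k = 2 * j + 1 := ⟨orderOf k / 2, by omega⟩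
  have h1 : ∀ n : ℕ, ρ ((k * k) ^ n) w = w := by
    intro n
    induction n with
    | zero => simp
    | succ n ih => rw [pow_succ, map_mul, MulAut.mul_apply, h, ih]
  have h2 : (k * k) ^ (j + 1) = k := by
    rw [← pow_two, ← pow_mul]
    have : 2 * (j + 1) = orderOf k + 1 := by omega
    rw [this, pow_succ, pow_orderOf_eq_one, one_mul]
  have h3 := h1 (j + 1)
  rwa [h2] at h3

theorem inv_eq_self_of_sq {a : H} (h : a * a = 1) : a⁻¹ = a :=
  (eq_inv_of_mul_eq_one_left h).symm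

theorem comm_of_sq_one {Ab : Subgroup H} (hA2 : ∀ a ∈ Ab, a * a = 1) {a b : H} (ha : a ∈ Ab)
    (hb : b ∈ Ab) : a * b = b * a := by
  have ha' := inv_eq_self_of_sq (hA2 a ha)
  have hb' := inv_eq_self_of_sq (hA2 b hb)
  have hab' := inv_eq_self_of_sq (hA2 (a * b) (Ab.mul_mem ha hb))
  calc a * b = (a * b)⁻¹ := hab'.symm
    _ = b⁻¹ * a⁻¹ := mul_inv_rev a b
    _ = b * a := by rw [ha', hb']

theorem exists_inverted {Ab Kb : Subgroup H} (hA2 : ∀ a ∈ Ab, a * a = 1)
    (hAK : ∀ a ∈ Ab, ∀ k ∈ Kb, a * k * a⁻¹ ∈ Kb)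
    (hfaithK : ∀ a ∈ Ab, (∀ k ∈ Kb, a * k * a⁻¹ = k) → a = 1) {b : H} (hb : b ∈ Ab)
    (hb1 : b ≠ 1) : ∃ k ∈ Kb, k ≠ 1 ∧ b * k * b⁻¹ = k⁻¹ := by
  by_contra hcon
  push Not at hcon
  apply hb1
  apply hfaithK b hb
  intro k₀ hk₀
  by_contra hne
  have hkK : k₀⁻¹ * (b * k₀ * b⁻¹) ∈ Kb := Kb.mul_mem (Kb.inv_mem hk₀) (hAK b hb k₀ hk₀)
  have hk1 : k₀⁻¹ * (b * k₀ * b⁻¹) ≠ 1 := by
    intro h
    apply hne
    exact (inv_mul_eq_one.1 h).symm
  apply hcon _ hkK hk1
  have e1 : b * (k₀⁻¹ * (b * k₀ * b⁻¹)) * b⁻¹ =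
      (b * k₀ * b⁻¹)⁻¹ * (b * b * k₀ * (b * b)⁻¹) := by group
  have e2 : (k₀⁻¹ * (b * k₀ * b⁻¹))⁻¹ = (b * k₀ * b⁻¹)⁻¹ * k₀ := by group
  rw [e1, e2, hA2 b hb, one_mul, inv_one, mul_one]

theorem mem_zpowers_invol {c z : H} (hc : c * c = 1) (hz : z ∈ Subgroup.zpowers c) :
    z = 1 ∨ z = c := by
  obtain ⟨n, rfl⟩ := Subgroup.mem_zpowers_iff.1 hz
  have h1 : c ^ n = c ^ (n % 2) := by
    conv_lhs => rw [← Int.emod_add_mul_ediv n 2]
    rw [zpow_add, zpow_mul, zpow_two, hc, one_zpow, mul_one]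
  rcases Int.emod_two_eq_zero_or_one n with h | h
  · left; rw [h1, h, zpow_zero]
  · right; rw [h1, h, zpow_one]

theorem mem_sup_zpowers_invol {D : Subgroup H} {c x : H} (hc : c * c = 1)
    (hDc : ∀ d ∈ D, d * c = c * d) (hx : x ∈ D ⊔ Subgroup.zpowers c) :
    x ∈ D ∨ ∃ d ∈ D, x = d * c := by
  have hn : Subgroup.zpowers c ≤ Subgroup.normalizer (D : Set H) := by
    rw [Subgroup.zpowers_le, Subgroup.mem_normalizer_iff]
    intro h
    constructor
    · intro hh
      have : c * h * c⁻¹ = h := by rw [← hDc h hh]; group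
      rw [this]; exact hh
    · intro hh
      have h1 := hDc _ hh
      have : h = c * h * c⁻¹ := by
        calc h = c⁻¹ * ((c * h * c⁻¹) * c) := by group
          _ = c⁻¹ * (c * (c * h * c⁻¹)) := by rw [h1]
          _ = c * h * c⁻¹ := by group
      rw [this]; exact hh
  have hmem : x ∈ ((D ⊔ Subgroup.zpowers c : Subgroup H) : Set H) := hx
  rw [Subgroup.coe_mul_of_right_le_normalizer_left D _ hn] at hmem
  obtain ⟨d, hd, z, hz, hdz⟩ := hmem
  have hdz' : d * z = x := hdz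
  rcases mem_zpowers_invol hc hz with rfl | rfl
  · left; rw [← hdz', mul_one]; exact hd
  · right; exact ⟨d, hd, hdz'.symm⟩

theorem four_elts {W : Type*} [Group W] [Finite W] (hW : Nat.card W = 4)
    (hW2 : ∀ v : W, v * v = 1) (w x : W) (hw : w ≠ 1) (hx : x ≠ 1) (hwx : w ≠ x) (z : W) :
    z = 1 ∨ z = w ∨ z = x ∨ z = w * x := by
  classical
  by_contra hcon
  push Not at hcon
  obtain ⟨hz1, hzw, hzx, hzwx⟩ := hcon
  have hwx1 : w * x ≠ 1 := by
    intro h
    have : w * x = w * w := by rw [h, hW2]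
    exact hwx (mul_left_cancel this).symm
  haveI := Fintype.ofFinite W
  have hcard : ({1, w, x, w * x, z} : Finset W).card = 5 := by
    rw [Finset.card_insert_of_notMem, Finset.card_insert_of_notMem,
      Finset.card_insert_of_notMem, Finset.card_insert_of_notMem, Finset.card_singleton]
    · simp only [Finset.mem_singleton]
      exact fun h => hzwx h.symm
    · simp only [Finset.mem_insert, Finset.mem_singleton, not_or]
      refine ⟨fun h => hw ?_, fun h => hzx h.symm⟩
      have : 1 * x = w * x := by rw [one_mul]; exact h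
      exact (mul_right_cancel this).symm
    · simp only [Finset.mem_insert, Finset.mem_singleton, not_or]
      refine ⟨hwx, fun h => hx ?_, fun h => hzw h.symm⟩
      have : w * 1 = w * x := by rw [mul_one]; exact h
      exact (mul_left_cancel this).symm
    · simp only [Finset.mem_insert, Finset.mem_singleton, not_or]
      exact ⟨fun h => hw h.symm, fun h => hx h.symm, fun h => hwx1 h.symm, fun h => hz1 h.symm⟩
  have hle := Finset.card_le_univ ({1, w, x, w * x, z} : Finset W)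
  rw [hcard, ← Nat.card_eq_fintype_card, hW] at hle
  omega

/-- A group of exponent two acting on a nontrivial invariant subgroup of exponent two has a
nontrivial fixed point. -/
theorem exists_fixed_ne_one_act [Finite V] (ρ : H →* MulAut V) (hV2 : ∀ v : V, v * v = 1)
    (D : Subgroup H) (hD2 : ∀ d ∈ D, d * d = 1) (W : Subgroup V)
    (hinv : ∀ d ∈ D, ∀ w ∈ W, ρ d w ∈ W) (hW : W ≠ ⊥) :
    ∃ w ∈ W, w ≠ 1 ∧ ∀ d ∈ D, ρ d w = w := by
  haveI : Fact (Nat.Prime 2) := ⟨Nat.prime_two⟩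
  have hDp : IsPGroup 2 D := fun d => ⟨1, by
    apply Subtype.ext
    simp [pow_two, hD2 d d.2]⟩
  let _inst : MulAction ↥D ↥W :=
    { smul := fun d w => ⟨ρ (d : H) (w : V), hinv d d.2 w w.2⟩
      one_smul := fun w => Subtype.ext (by
        show ρ ((1 : ↥D) : H) (w : V) = w
        simp)
      mul_smul := fun a b w => Subtype.ext (by
        show ρ ((a * b : ↥D) : H) (w : V) = ρ (a : H) (ρ (b : H) (w : V))
        rw [Subgroup.coe_mul, map_mul, MulAut.mul_apply]) }
  have hcard : 2 ∣ Nat.card ↥W := by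
    obtain ⟨w, hw, hw1⟩ : ∃ w ∈ W, w ≠ 1 := by
      by_contra hcon
      push Not at hcon
      exact hW ((Subgroup.eq_bot_iff_forall W).2 hcon)
    have : orderOf (⟨w, hw⟩ : ↥W) = 2 :=
      orderOf_eq_prime (by apply Subtype.ext; simp [pow_two, hV2])
        (by intro h; exact hw1 (congrArg Subtype.val h))
    rw [← this]; exact orderOf_dvd_natCard _
  have h1 : (1 : ↥W) ∈ MulAction.fixedPoints ↥D ↥W := by
    intro d
    apply Subtype.ext
    show ρ (d : H) ((1 : ↥W) : V) = ((1 : ↥W) : V)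
    simp
  obtain ⟨w, hw, hw1⟩ := hDp.exists_fixed_point_of_prime_dvd_card_of_fixed_point ↥W hcard h1
  refine ⟨w, w.2, fun h => hw1 (Subtype.ext h).symm, fun d hd => ?_⟩
  have h2 : (⟨d, hd⟩ : ↥D) • w = w := hw ⟨d, hd⟩
  exact congrArg Subtype.val h2

theorem commHom_range_comm (ρ : H →* MulAut V) (k d : H) (hdk : Commute d k) (w : V)
    (hw : w ∈ (commHom ρ k).range) : ρ d w ∈ (commHom ρ k).range := by
  obtain ⟨v, rfl⟩ := hw
  refine ⟨ρ d v, ?_⟩
  rw [commHom_apply, commHom_apply, map_div, ← MulAut.mul_apply, ← MulAut.mul_apply,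
    ← map_mul, ← map_mul, hdk.eq]

theorem commHom_range_inv (ρ : H →* MulAut V) (k d : H) (hdk : d * k * d⁻¹ = k⁻¹) (w : V)
    (hw : w ∈ (commHom ρ k).range) : ρ d w ∈ (commHom ρ k).range := by
  obtain ⟨v, rfl⟩ := hw
  have h1 : d * k = k⁻¹ * d := by rw [← hdk]; group
  refine ⟨(ρ k⁻¹ (ρ d v))⁻¹, ?_⟩
  have h2 : ρ k (ρ k⁻¹ (ρ d v)) = ρ d v := by
    rw [← MulAut.mul_apply, ← map_mul, mul_inv_cancel, map_one, MulAut.one_apply]
  have h3 : ρ d (ρ k v) = ρ k⁻¹ (ρ d v) := by
    rw [← MulAut.mul_apply, ← MulAut.mul_apply, ← map_mul, ← map_mul, h1]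
  rw [commHom_apply, commHom_apply, map_inv, h2, map_div, h3]
  rw [div_eq_mul_inv, div_eq_mul_inv, inv_inv, mul_comm]

/-- **Offender lemma**: an elementary abelian `2`-group `Ab` acting faithfully on an abelian
group `Kb` of odd order, both acting on an elementary abelian `2`-group `V` on which `Kb` is
faithful, with `Ab` an offender on `V`, contains an involution `b` inverting an element `y` of
order three of `Kb` such that `[V, y]` is a four-group on which `y` acts fixed-point-freely. -/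
theorem offender_S3 [Finite H] [Finite V] (ρ : H →* MulAut V) (hV2 : ∀ v : V, v * v = 1)
    (Kb Ab : Subgroup H) (hKab : ∀ x ∈ Kb, ∀ y ∈ Kb, x * y = y * x)
    (hKodd : ∀ x ∈ Kb, ¬ 2 ∣ orderOf x) (hA2 : ∀ a ∈ Ab, a * a = 1)
    (hAK : ∀ a ∈ Ab, ∀ k ∈ Kb, a * k * a⁻¹ ∈ Kb)
    (hfaithK : ∀ a ∈ Ab, (∀ k ∈ Kb, a * k * a⁻¹ = k) → a = 1)
    (hfaithV : ∀ k ∈ Kb, (∀ v, ρ k v = v) → k = 1)
    (hne : Ab ≠ ⊥) (hoff : Nat.card V ≤ Nat.card Ab * Nat.card (fixV ρ Ab)) :
    ∃ b ∈ Ab, ∃ y ∈ Kb, y ≠ 1 ∧ y ^ 3 = 1 ∧ b * y * b⁻¹ = y⁻¹ ∧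
      Nat.card (commHom ρ y).range = 4 ∧
      ∀ w ∈ (commHom ρ y).range, ρ y w = w → w = 1 := by
  classical
  have hcommA : ∀ x ∈ Ab, ∀ y ∈ Ab, Commute x y := fun x hx y hy => comm_of_sq_one hA2 hx hy
  have hcommK : ∀ x ∈ Kb, ∀ y ∈ Kb, Commute x y := hKab
  have hrange_inv : ∀ (k d : H), Commute d k → ∀ w ∈ (commHom ρ k).range,
      ρ d w ∈ (commHom ρ k).range := by
    intro k d hdk w hw
    obtain ⟨v, rfl⟩ := hw
    refine ⟨ρ d v, ?_⟩
    rw [commHom_apply, commHom_apply, map_div, ← MulAut.mul_apply, ← MulAut.mul_apply,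
      ← map_mul, ← map_mul, hdk.eq]
  have hfpf : ∀ k ∈ Kb, ∀ w ∈ (commHom ρ k).range, ρ k w = w → w = 1 := by
    intro k hk w hw hkw
    obtain ⟨v, rfl⟩ := hw
    rw [commHom_apply] at hkw ⊢
    exact comm_fixed_eq_one ρ hV2 k (hKodd k hk) v hkw
  have hrange_ne : ∀ k ∈ Kb, k ≠ 1 → (commHom ρ k).range ≠ ⊥ := by
    intro k hk hk1 hbot
    apply hk1
    apply hfaithV k hk
    intro v
    have : commHom ρ k v ∈ (commHom ρ k).range := ⟨v, rfl⟩
    rw [hbot, Subgroup.mem_bot, commHom_apply, div_eq_one] at this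
    exact this
  let 𝓑 := {B : Subgroup H // B ≤ Ab ∧ B ≠ ⊥ ∧ Nat.card V ≤ Nat.card B * Nat.card (fixV ρ B)}
  haveI : Nonempty 𝓑 := ⟨⟨Ab, le_rfl, hne, hoff⟩⟩
  obtain ⟨⟨B, hBA, hBne, hBoff⟩, hBmin⟩ :=
    Finite.exists_min (fun B : 𝓑 => Nat.card (B.1 : Subgroup H))
  have hBmin' : ∀ B' : Subgroup H, B' ≤ Ab → B' ≠ ⊥ →
      Nat.card V ≤ Nat.card B' * Nat.card (fixV ρ B') → Nat.card B ≤ Nat.card B' :=
    fun B' h1 h2 h3 => hBmin ⟨B', h1, h2, h3⟩
  obtain ⟨b, hbB, hb1⟩ : ∃ b ∈ B, b ≠ 1 := by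
    by_contra hcon
    push Not at hcon
    exact hBne ((Subgroup.eq_bot_iff_forall B).2 hcon)
  have hbA := hBA hbB
  have hbb := hA2 b hbA
  have hbinv : b⁻¹ = b := inv_eq_self_of_sq hbb
  have hB2 : Nat.card B = 2 := by
    by_contra hB2
    let 𝒟 := {D : Subgroup H // D ≤ B ∧ b ∉ D ∧
      ∃ k ∈ Kb, k ≠ 1 ∧ b * k * b⁻¹ = k⁻¹ ∧ ∀ d ∈ D, Commute d k}
    haveI : Nonempty 𝒟 := by
      obtain ⟨k, hk, hk1, hbk⟩ := exists_inverted hA2 hAK hfaithK hbA hb1
      exact ⟨⟨⊥, bot_le, fun h => hb1 (Subgroup.mem_bot.1 h), k, hk, hk1, hbk,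
        fun d hd => by rw [Subgroup.mem_bot.1 hd]; exact Commute.one_left k⟩⟩
    obtain ⟨⟨D, hDB, hbD, k, hkK, hk1, hbk, hDk⟩, hDmax⟩ :=
      Finite.exists_max (fun D : 𝒟 => Nat.card (D.1 : Subgroup H))
    have hDmax' : ∀ D' : Subgroup H, D' ≤ B → b ∉ D' →
        (∃ k ∈ Kb, k ≠ 1 ∧ b * k * b⁻¹ = k⁻¹ ∧ ∀ d ∈ D', Commute d k) →
        Nat.card D' ≤ Nat.card D := fun D' h1 h2 h3 => hDmax ⟨D', h1, h2, h3⟩
    have hgrow : ∀ (c : H), c ∈ B → c ∉ D → b ∉ D ⊔ Subgroup.zpowers c →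
        (∃ k' ∈ Kb, k' ≠ 1 ∧ b * k' * b⁻¹ = k'⁻¹ ∧ (∀ d ∈ D, Commute d k') ∧ Commute c k') →
        False := by
      intro c hcB hcD hbn ⟨k', hk'K, hk'1, hbk', hDk', hck'⟩
      have hle : D ⊔ Subgroup.zpowers c ≤ Subgroup.centralizer ({k'} : Set H) := by
        apply sup_le
        · intro d hd
          rw [Subgroup.mem_centralizer_iff]
          intro h hh
          rw [Set.mem_singleton_iff.1 hh]
          exact (hDk' d hd).eq.symm
        · rw [Subgroup.zpowers_le, Subgroup.mem_centralizer_iff]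
          intro h hh
          rw [Set.mem_singleton_iff.1 hh]
          exact hck'.eq.symm
      have h1 := hDmax' (D ⊔ Subgroup.zpowers c) (sup_le hDB (Subgroup.zpowers_le.2 hcB)) hbn
        ⟨k', hk'K, hk'1, hbk', fun d hd =>
          (Subgroup.mem_centralizer_iff.1 (hle hd) k' rfl).symm⟩
      have h2 : D = D ⊔ Subgroup.zpowers c := Subgroup.eq_of_le_of_card_ge le_sup_left h1
      apply hcD
      rw [h2]
      exact (le_sup_right : Subgroup.zpowers c ≤ _) (Subgroup.mem_zpowers c)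
    have hclaim : ∀ c ∈ B, c ∈ D ∨ c * b ∈ D := by
      intro c hcB
      by_contra hcon
      push Not at hcon
      obtain ⟨hcD, hcbD⟩ := hcon
      have hcA := hBA hcB
      have hcc := hA2 c hcA
      have hcb : Commute c b := hcommA c hcA b hbA
      have hDc : ∀ d ∈ D, Commute d c := fun d hd => hcommA d (hBA (hDB hd)) c hcA
      have hDb : ∀ d ∈ D, Commute d b := fun d hd => hcommA d (hBA (hDB hd)) b hbA
      have hkcK : c * k * c⁻¹ ∈ Kb := hAK c hcA k hkK
      obtain ⟨kc, hkc⟩ : ∃ kc, kc = c * k * c⁻¹ := ⟨_, rfl⟩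
      rw [← hkc] at hkcK
      have hkkc : Commute k kc := hcommK k hkK kc hkcK
      have hDkc : ∀ d ∈ D, Commute d kc := fun d hd => by
        rw [hkc]
        exact ((hDc d hd).mul_right (hDk d hd)).mul_right (hDc d hd).inv_right
      have hbkc : b * kc * b⁻¹ = kc⁻¹ := by
        have e : b * kc * b⁻¹ = (b * c) * k * (b * c)⁻¹ := by rw [hkc]; group
        rw [e, ← hcb.eq]
        have e2 : c * b * k * (c * b)⁻¹ = c * (b * k * b⁻¹) * c⁻¹ := by group
        rw [e2, hbk, hkc]; group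
      have hckc : c * kc * c⁻¹ = k := by
        have e : c * kc * c⁻¹ = (c * c) * k * (c * c)⁻¹ := by rw [hkc]; group
        rw [e, hcc, one_mul, inv_one, mul_one]
      have hkk : k * k ≠ 1 := by
        intro h
        have h2 : orderOf k ∣ 2 := orderOf_dvd_of_pow_eq_one (by rw [pow_two]; exact h)
        have h3 := hKodd k hkK
        have h4 : orderOf k = 1 := by
          rcases (Nat.dvd_prime Nat.prime_two).1 h2 with h5 | h5
          · exact h5
          · exact absurd (h5 ▸ dvd_rfl) h3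
        exact hk1 (orderOf_eq_one_iff.1 h4)
      by_cases hp : k * kc = 1
      · have hkm : k * kc⁻¹ ≠ 1 := by
          intro h
          apply hkk
          calc k * k = k * (k * kc) * kc⁻¹ := by group
            _ = k * (kc * k) * kc⁻¹ := by rw [hkkc.eq]
            _ = (k * kc) * (k * kc⁻¹) := by group
            _ = 1 := by rw [hp, h, one_mul]
        have hbkm : b * (k * kc⁻¹) * b⁻¹ = (k * kc⁻¹)⁻¹ := by
          have e : b * (k * kc⁻¹) * b⁻¹ = (b * k * b⁻¹) * (b * kc * b⁻¹)⁻¹ := by group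
          rw [e, hbk, hbkc, inv_inv, mul_inv_rev, inv_inv]
          exact hkkc.inv_left.eq
        have hckm : c * (k * kc⁻¹) * c⁻¹ = (k * kc⁻¹)⁻¹ := by
          have e : c * (k * kc⁻¹) * c⁻¹ = (c * k * c⁻¹) * (c * kc * c⁻¹)⁻¹ := by group
          rw [e, hckc, ← hkc, mul_inv_rev, inv_inv]
        apply hgrow (c * b) (B.mul_mem hcB hbB) hcbD
        · intro hb'
          rcases mem_sup_zpowers_invol (hA2 _ (Ab.mul_mem hcA hbA))
            (fun d hd => ((hDc d hd).mul_right (hDb d hd)).eq) hb' with h | ⟨d, hd, h⟩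
          · exact hbD h
          · have h1 : d * c = 1 := by
              have : 1 * b = (d * c) * b := by rw [one_mul, mul_assoc]; exact h
              exact (mul_right_cancel this).symm
            have h2 : c = d⁻¹ := eq_inv_of_mul_eq_one_right h1
            exact hcD (h2 ▸ D.inv_mem hd)
        · refine ⟨k * kc⁻¹, Kb.mul_mem hkK (Kb.inv_mem hkcK), hkm, hbkm,
            fun d hd => (hDk d hd).mul_right (hDkc d hd).inv_right, ?_⟩
          have h1 : (c * b) * (k * kc⁻¹) * (c * b)⁻¹ = k * kc⁻¹ := by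
            have e : (c * b) * (k * kc⁻¹) * (c * b)⁻¹ = c * (b * (k * kc⁻¹) * b⁻¹) * c⁻¹ := by
              group
            rw [e, hbkm]
            have e2 : c * (k * kc⁻¹)⁻¹ * c⁻¹ = (c * (k * kc⁻¹) * c⁻¹)⁻¹ := by group
            rw [e2, hckm, inv_inv]
          show (c * b) * (k * kc⁻¹) = (k * kc⁻¹) * (c * b)
          calc (c * b) * (k * kc⁻¹) = ((c * b) * (k * kc⁻¹) * (c * b)⁻¹) * (c * b) := by group
            _ = (k * kc⁻¹) * (c * b) := by rw [h1]
      · apply hgrow c hcB hcD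
        · intro hb'
          rcases mem_sup_zpowers_invol hcc (fun d hd => (hDc d hd).eq) hb' with h | ⟨d, hd, h⟩
          · exact hbD h
          · apply hcbD
            have h1 : c * b = d := by
              rw [h, ← mul_assoc, ← (hDc d hd).eq, mul_assoc, hcc, mul_one]
            rw [h1]; exact hd
        · refine ⟨k * kc, Kb.mul_mem hkK hkcK, hp, ?_,
            fun d hd => (hDk d hd).mul_right (hDkc d hd), ?_⟩
          · have e : b * (k * kc) * b⁻¹ = (b * k * b⁻¹) * (b * kc * b⁻¹) := by group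
            rw [e, hbk, hbkc, ← mul_inv_rev, hkkc.eq]
          · have h1 : c * (k * kc) * c⁻¹ = k * kc := by
              have e : c * (k * kc) * c⁻¹ = (c * k * c⁻¹) * (c * kc * c⁻¹) := by group
              rw [e, hckc, ← hkc, hkkc.eq]
            show c * (k * kc) = (k * kc) * c
            calc c * (k * kc) = (c * (k * kc) * c⁻¹) * c := by group
              _ = (k * kc) * c := by rw [h1]
    have hidx : (D.subgroupOf B).index = 2 := by
      rw [Subgroup.index_eq_two_iff]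
      refine ⟨⟨b, hbB⟩, fun c => ?_⟩
      rcases hclaim c c.2 with h | h
      · right
        refine ⟨Subgroup.mem_subgroupOf.2 h, fun h' => hbD ?_⟩
        have h'' : (c : H) * b ∈ D := Subgroup.mem_subgroupOf.1 h'
        have : b = (c : H)⁻¹ * ((c : H) * b) := by group
        rw [this]; exact D.mul_mem (D.inv_mem h) h''
      · left
        refine ⟨Subgroup.mem_subgroupOf.2 h, fun h' => hbD ?_⟩
        have h'' : (c : H) ∈ D := Subgroup.mem_subgroupOf.1 h'
        have : b = (c : H)⁻¹ * ((c : H) * b) := by group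
        rw [this]; exact D.mul_mem (D.inv_mem h'') h
    have hcardB : Nat.card B = Nat.card D * 2 := by
      rw [← hidx, ← Nat.card_congr (Subgroup.subgroupOfEquivOfLe hDB).toEquiv]
      exact (Subgroup.card_mul_index (D.subgroupOf B)).symm
    have hDne : D ≠ ⊥ := by
      intro h
      rw [h, Subgroup.card_bot] at hcardB
      exact hB2 (by omega)
    have hDnot : ¬ Nat.card V ≤ Nat.card D * Nat.card (fixV ρ D) := by
      intro h
      have := hBmin' D (hDB.trans hBA) hDne h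
      have hpos : 0 < Nat.card D := Nat.card_pos
      omega
    have hle : fixV ρ B ≤ fixV ρ D := fun v hv d hd => hv d (hDB hd)
    have hfixeq : fixV ρ B = fixV ρ D := by
      apply Subgroup.eq_of_le_of_card_ge hle
      obtain ⟨j, hj⟩ := Subgroup.card_dvd_of_le hle
      have hpos : 0 < Nat.card (fixV ρ D) := Nat.card_pos
      have hposB : 0 < Nat.card (fixV ρ B) := Nat.card_pos
      have hposD : 0 < Nat.card D := Nat.card_pos
      push Not at hDnot
      rw [hcardB] at hBoff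
      have hj2 : j < 2 := by
        by_contra hcon
        push Not at hcon
        have h1 : Nat.card D * Nat.card (fixV ρ D) < Nat.card D * 2 * Nat.card (fixV ρ B) :=
          lt_of_lt_of_le hDnot hBoff
        rw [hj] at h1
        have h2 : Nat.card (fixV ρ B) * 2 ≤ Nat.card (fixV ρ B) * j :=
          Nat.mul_le_mul_left _ hcon
        nlinarith
      have hj1 : j = 1 := by
        rcases Nat.eq_zero_or_pos j with h0 | h0
        · rw [h0, mul_zero] at hj; omega
        · omega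
      rw [hj, hj1, mul_one]
    obtain ⟨w, hwW, hw1, hwD⟩ := exists_fixed_ne_one_act ρ hV2 D
      (fun d hd => hA2 d (hBA (hDB hd))) (commHom ρ k).range
      (fun d hd w hw => hrange_inv k d (hDk d hd) w hw) (hrange_ne k hkK hk1)
    have hwB : w ∈ fixV ρ B := by rw [hfixeq]; exact hwD
    have hkwD : ρ k w ∈ fixV ρ D := by
      intro d hd
      rw [← MulAut.mul_apply, ← map_mul, (hDk d hd).eq, map_mul, MulAut.mul_apply, hwD d hd]
    have hkwB : ρ k w ∈ fixV ρ B := by rw [hfixeq]; exact hkwD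
    have h1 : ρ b w = w := hwB b hbB
    have h2 : ρ b (ρ k w) = ρ k w := hkwB b hbB
    have h3 : ρ k⁻¹ w = ρ k w := by
      rw [← hbk, map_mul, map_mul, MulAut.mul_apply, MulAut.mul_apply, hbinv, h1, h2]
    have h4 : ρ (k * k) w = w := by
      rw [map_mul, MulAut.mul_apply, ← h3, ← MulAut.mul_apply, ← map_mul, mul_inv_cancel,
        map_one, MulAut.one_apply]
    have h5 := fixed_of_sq_fixed ρ k (hKodd k hkK) w h4
    exact hw1 (hfpf k hkK w hwW h5)
  have hordb : orderOf b = 2 := by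
    haveI : Fact (Nat.Prime 2) := ⟨Nat.prime_two⟩
    exact orderOf_eq_prime (by rw [pow_two]; exact hbb) hb1
  have hBz : Subgroup.zpowers b = B := by
    apply Subgroup.eq_of_le_of_card_ge (Subgroup.zpowers_le.2 hbB)
    rw [Nat.card_zpowers, hordb, hB2]
  obtain ⟨k, hkK, hk1, hbk⟩ := exists_inverted hA2 hAK hfaithK hbA hb1
  have hkodd := hKodd k hkK
  have hFbeq : fixV ρ B = (commHom ρ b).ker := by
    ext v
    rw [mem_fixV, MonoidHom.mem_ker, commHom_apply, div_eq_one]
    constructor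
    · intro h; exact h b hbB
    · intro h x hx
      rw [← hBz] at hx
      rcases mem_zpowers_invol hbb hx with rfl | rfl
      · simp
      · exact h
  have hFbidx : (commHom ρ b).ker.index ≤ 2 := by
    have h1 := Subgroup.card_mul_index (commHom ρ b).ker
    rw [hFbeq, hB2] at hBoff
    have hpos : 0 < Nat.card (commHom ρ b).ker := Nat.card_pos
    by_contra hcon
    push Not at hcon
    nlinarith
  have hFb'idx : ((commHom ρ b).ker.comap (ρ k⁻¹).toMonoidHom).index ≤ 2 := by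
    rw [Subgroup.index_comap_of_surjective _ (MulEquiv.surjective _)]
    exact hFbidx
  have hle : (commHom ρ b).ker ⊓ (commHom ρ b).ker.comap (ρ k⁻¹).toMonoidHom ≤
      (commHom ρ k).ker := by
    intro v hv
    obtain ⟨hv1, hv2⟩ := Subgroup.mem_inf.1 hv
    rw [MonoidHom.mem_ker, commHom_apply, div_eq_one] at hv1
    have hv2' : ρ b (ρ k⁻¹ v) = ρ k⁻¹ v := by
      have : (ρ k⁻¹).toMonoidHom v ∈ (commHom ρ b).ker := hv2
      rw [MonoidHom.mem_ker, commHom_apply, div_eq_one] at this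
      exact this
    rw [MonoidHom.mem_ker, commHom_apply, div_eq_one]
    apply fixed_of_sq_fixed ρ k hkodd
    have hbk' : b * k⁻¹ * b⁻¹ = k := by
      have : b * k⁻¹ * b⁻¹ = (b * k * b⁻¹)⁻¹ := by group
      rw [this, hbk, inv_inv]
    have h3 : ρ k v = ρ k⁻¹ v := by
      conv_lhs => rw [← hbk']
      rw [map_mul, map_mul, MulAut.mul_apply, MulAut.mul_apply, hbinv, hv1, hv2']
    rw [map_mul, MulAut.mul_apply, h3, ← MulAut.mul_apply, ← map_mul, mul_inv_cancel, map_one,
      MulAut.one_apply]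
  have hFkidx : (commHom ρ k).ker.index ≤ 4 := by
    have h1 := Subgroup.index_dvd_of_le hle
    have h2 : ((commHom ρ b).ker ⊓ (commHom ρ b).ker.comap (ρ k⁻¹).toMonoidHom).index ≤
        (commHom ρ b).ker.index * ((commHom ρ b).ker.comap (ρ k⁻¹).toMonoidHom).index :=
      Subgroup.index_inf_le
    have h3 : ((commHom ρ b).ker ⊓ (commHom ρ b).ker.comap (ρ k⁻¹).toMonoidHom).index ≠ 0 :=
      Subgroup.index_ne_zero_of_finite
    have h4 := Nat.le_of_dvd (Nat.pos_of_ne_zero h3) h1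
    nlinarith
  obtain ⟨W, hW⟩ : ∃ W, W = (commHom ρ k).range := ⟨_, rfl⟩
  have hWcard : Nat.card W ≤ 4 := by rw [hW, ← Subgroup.index_ker]; exact hFkidx
  have hWne : W ≠ ⊥ := by rw [hW]; exact hrange_ne k hkK hk1
  obtain ⟨w₀, hw₀, hw₀1⟩ : ∃ w ∈ W, w ≠ 1 := by
    by_contra hcon
    push Not at hcon
    exact hWne ((Subgroup.eq_bot_iff_forall W).2 hcon)
  have hWk : ∀ w ∈ W, ρ k w ∈ W := by
    rw [hW]; exact fun w hw => hrange_inv k k (Commute.refl k) w hw
  have hWfpf : ∀ w ∈ W, ρ k w = w → w = 1 := by rw [hW]; exact hfpf k hkK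
  have hordw : orderOf w₀ = 2 := by
    haveI : Fact (Nat.Prime 2) := ⟨Nat.prime_two⟩
    exact orderOf_eq_prime (by rw [pow_two]; exact hV2 w₀) hw₀1
  have hW4 : Nat.card W = 4 := by
    have h2 : 2 ∣ Nat.card W := by
      have h := Subgroup.card_dvd_of_le (Subgroup.zpowers_le.2 hw₀)
      rwa [Nat.card_zpowers, hordw] at h
    have hne2 : Nat.card W ≠ 2 := by
      intro h
      have hz : Subgroup.zpowers w₀ = W := by
        apply Subgroup.eq_of_le_of_card_ge (Subgroup.zpowers_le.2 hw₀)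
        rw [Nat.card_zpowers, hordw, h]
      have h3 : ρ k w₀ ∈ Subgroup.zpowers w₀ := by rw [hz]; exact hWk w₀ hw₀
      rcases mem_zpowers_invol (hV2 w₀) h3 with h4 | h4
      · apply hw₀1
        have : ρ k w₀ = ρ k 1 := by rw [h4, map_one]
        exact (ρ k).injective this
      · exact hw₀1 (hWfpf w₀ hw₀ h4)
    have hpos : 0 < Nat.card W := Nat.card_pos
    obtain ⟨c, hc⟩ := h2
    omega
  have hstar : ∀ w ∈ W, w * ρ k w * ρ k (ρ k w) = 1 := by
    intro w hw
    by_cases hw1 : w = 1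
    · rw [hw1]; simp
    · have hx1 : ρ k w ≠ 1 := by
        intro h
        apply hw1
        have : ρ k w = ρ k 1 := by rw [h, map_one]
        exact (ρ k).injective this
      have hxw : w ≠ ρ k w := fun h => hw1 (hWfpf w hw h.symm)
      have h4 := four_elts (W := ↥W) hW4 (fun v => Subtype.ext (hV2 v)) ⟨w, hw⟩
        ⟨ρ k w, hWk w hw⟩
        (fun h => hw1 (congrArg Subtype.val h)) (fun h => hx1 (congrArg Subtype.val h))
        (fun h => hxw (congrArg Subtype.val h)) ⟨ρ k (ρ k w), hWk _ (hWk w hw)⟩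
      rcases h4 with h | h | h | h
      · exfalso
        have h' : ρ k (ρ k w) = 1 := congrArg Subtype.val h
        apply hx1
        have : ρ k (ρ k w) = ρ k 1 := by rw [h', map_one]
        exact (ρ k).injective this
      · exfalso
        have h' : ρ k (ρ k w) = w := congrArg Subtype.val h
        have hfix : ρ k (w * ρ k w) = w * ρ k w := by rw [map_mul, h', mul_comm]
        have h6 := hWfpf _ (W.mul_mem hw (hWk w hw)) hfix
        apply hxw
        have h5 : w * ρ k w = w * w := by rw [h6, hV2]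
        exact (mul_left_cancel h5).symm
      · exfalso
        have h' : ρ k (ρ k w) = ρ k w := congrArg Subtype.val h
        exact hx1 (hWfpf _ (hWk w hw) h')
      · have h' : ρ k (ρ k w) = w * ρ k w := congrArg Subtype.val h
        rw [h']
        exact hV2 _
  have hk3 : k ^ 3 = 1 := by
    apply hfaithV _ (Kb.pow_mem hkK 3)
    intro v
    obtain ⟨w, hwdef⟩ : ∃ w, w = commHom ρ k v := ⟨_, rfl⟩
    have hw : w ∈ W := by rw [hW, hwdef]; exact ⟨v, rfl⟩
    have hkv : ρ k v = w * v := by rw [hwdef, commHom_apply]; simp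
    have h1 := hstar _ hw
    have e : ρ (k ^ 3) v = ρ k (ρ k (ρ k v)) := by
      rw [pow_succ, pow_two, map_mul, map_mul, MulAut.mul_apply, MulAut.mul_apply]
    rw [e]
    calc ρ k (ρ k (ρ k v)) = ρ k (ρ k (w * v)) := by rw [hkv]
      _ = ρ k (ρ k w) * ρ k (ρ k v) := by rw [map_mul, map_mul]
      _ = ρ k (ρ k w) * ρ k (w * v) := by rw [hkv]
      _ = ρ k (ρ k w) * (ρ k w * ρ k v) := by rw [map_mul]
      _ = ρ k (ρ k w) * (ρ k w * (w * v)) := by rw [hkv]
      _ = (w * ρ k w * ρ k (ρ k w)) * v := by ac_rfl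
      _ = v := by rw [h1, one_mul]
  refine ⟨b, hbA, k, hkK, hk1, hk3, hbk, ?_, ?_⟩
  · rw [← hW]; exact hW4
  · rw [← hW]; exact hWfpf

end Off

end Cfsg.Agent.H52
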