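import Mathlib

/-!
# Basic helper lemmas (helper12)

Conjugation of subgroups by `MulAut.conj g • H`, normalizers, cardinalities.
-/

set_option autoImplicit false
open Pointwise

namespace Cfsg.Agent.H52.V12

variable {G : Type*} [Group G]

theorem conj_smul_eq_iff_mem_normalizer {A : Subgroup G} {g : G} :
    MulAut.conj g • A = A ↔ g ∈ Subgroup.normalizer (A : Set G) := by
  rw [Subgroup.mem_normalizer_iff_map_conj_eq]
  rfl

theorem conj_smul_eq_of_mem_normalizer {A : Subgroup G} {g : G}
    (hg : g ∈ Subgroup.normalizer (A : Set G)) : MulAut.conj g • A = A :=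
  conj_smul_eq_iff_mem_normalizer.mpr hg

theorem conj_smul_eq_of_normal_subgroupOf {A H : Subgroup G} (hA : A ≤ H)
    (hn : (A.subgroupOf H).Normal) {h : G} (hh : h ∈ H) : MulAut.conj h • A = A :=
  conj_smul_eq_of_mem_normalizer ((Subgroup.normal_subgroupOf_iff_le_normalizer hA).mp hn hh)

theorem mem_conj_smul_iff {A : Subgroup G} {g x : G} :
    x ∈ MulAut.conj g • A ↔ g⁻¹ * x * g ∈ A := by
  rw [Subgroup.mem_pointwise_smul_iff_inv_smul_mem, ← map_inv, MulAut.smul_def, MulAut.conj_apply,
    inv_inv]

theorem conj_mem_conj_smul {A : Subgroup G} {g x : G} (hx : x ∈ A) :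
    g * x * g⁻¹ ∈ MulAut.conj g • A := ⟨x, hx, rfl⟩

theorem card_conj_smul [Finite G] (A : Subgroup G) (g : G) :
    Nat.card (MulAut.conj g • A : Subgroup G) = Nat.card A :=
  (Nat.card_congr (Subgroup.equivSMul (MulAut.conj g) A).toEquiv).symm

theorem conj_smul_eq_of_le [Finite G] {A : Subgroup G} {g : G} (h : A ≤ MulAut.conj g • A) :
    MulAut.conj g • A = A :=
  (Subgroup.eq_of_le_of_card_ge h (card_conj_smul A g).le).symm

theorem conj_smul_eq_of_ge [Finite G] {A : Subgroup G} {g : G} (h : MulAut.conj g • A ≤ A) :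
    MulAut.conj g • A = A :=
  Subgroup.eq_of_le_of_card_ge h (card_conj_smul A g).ge

theorem conj_smul_conj_smul (A : Subgroup G) (g h : G) :
    MulAut.conj g • MulAut.conj h • A = MulAut.conj (g * h) • A := by
  rw [map_mul, mul_smul]

theorem conj_inv_smul_conj_smul (A : Subgroup G) (g : G) :
    MulAut.conj g⁻¹ • MulAut.conj g • A = A := by
  rw [conj_smul_conj_smul, inv_mul_cancel, map_one, one_smul]

theorem conj_smul_conj_inv_smul (A : Subgroup G) (g : G) :
    MulAut.conj g • MulAut.conj g⁻¹ • A = A := by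
  rw [conj_smul_conj_smul, mul_inv_cancel, map_one, one_smul]

end Cfsg.Agent.H52.V12

namespace Cfsg.Agent.H52.V12

/-- Two subgroups meeting the kernel of `f` trivially and having the same image are isomorphic. -/
theorem nonempty_mulEquiv_of_map_eq {G H : Type*} [Group G] [Group H] (f : G →* H)
    (X Y : Subgroup G) (hX : Disjoint X f.ker) (hY : Disjoint Y f.ker) (h : X.map f = Y.map f) :
    Nonempty (X ≃* Y) := by
  have inj : ∀ Z : Subgroup G, Disjoint Z f.ker → Function.Injective (f.comp Z.subtype) := by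
    intro Z hZ
    rw [← MonoidHom.ker_eq_bot_iff]
    ext ⟨z, hz⟩
    simp only [MonoidHom.mem_ker, MonoidHom.coe_comp, Function.comp_apply, Subgroup.mem_bot]
    constructor
    · intro h1
      exact Subtype.ext (Subgroup.disjoint_def.mp hZ hz h1)
    · intro h1
      rw [h1]; simp
  have rng : ∀ Z : Subgroup G, (f.comp Z.subtype).range = Z.map f := by
    intro Z
    ext y
    simp [MonoidHom.mem_range]
  have e1 : X ≃* (f.comp X.subtype).range := MonoidHom.ofInjective (inj X hX)
  have e2 : Y ≃* (f.comp Y.subtype).range := MonoidHom.ofInjective (inj Y hY)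
  have e3 : (f.comp X.subtype).range = (f.comp Y.subtype).range := by rw [rng, rng, h]
  exact ⟨e1.trans ((MulEquiv.subgroupCongr e3).trans e2.symm)⟩

end Cfsg.Agent.H52.V12

namespace Cfsg.Agent.H52.V12

theorem isCoatom_map_of_surjective {G Q : Type*} [Group G] [Group Q] {f : G →* Q}
    (hf : Function.Surjective f) {M : Subgroup G} (hker : f.ker ≤ M) (hM : IsCoatom M) :
    IsCoatom (M.map f) := by
  have e : (M.map f).comap f = M := Subgroup.comap_map_eq_self hker
  constructor
  · intro h
    apply hM.1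
    rw [← e, h, Subgroup.comap_top]
  · intro X hX
    have h1 : M < X.comap f := by
      rw [← e]; exact (Subgroup.comap_lt_comap_of_surjective hf).mpr hX
    have h2 := hM.2 _ h1
    apply Subgroup.comap_injective hf
    rw [h2, Subgroup.comap_top]

theorem isComplement'_of_normal_of_disjoint_of_sup {G : Type*} [Group G] {N M : Subgroup G}
    [N.Normal] (h1 : Disjoint N M) (h2 : N ⊔ M = ⊤) : Subgroup.IsComplement' N M := by
  apply Subgroup.isComplement'_of_disjoint_and_mul_eq_univ h1
  rw [← Subgroup.normal_mul, h2]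
  rfl

/-- A subgroup of prime order is contained in or disjoint from any subgroup. -/
theorem le_or_disjoint_of_prime_card {G : Type*} [Group G] {N : Subgroup G}
    (hN : (Nat.card N).Prime) (M : Subgroup G) : N ≤ M ∨ Disjoint M N := by
  have : Fact (Nat.card N).Prime := ⟨hN⟩
  rcases Subgroup.eq_bot_or_eq_top_of_prime_card (M.subgroupOf N) with h | h
  · exact Or.inr (Subgroup.subgroupOf_eq_bot.mp h)
  · exact Or.inl (Subgroup.subgroupOf_eq_top.mp h)

theorem card_quotient_lt_of_ne_bot {G : Type*} [Group G] [Finite G] (N : Subgroup G)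
    (hN : N ≠ ⊥) : Nat.card (G ⧸ N) < Nat.card G := by
  rw [Subgroup.card_eq_card_quotient_mul_card_subgroup N]
  have h1 : 1 < Nat.card N := N.one_lt_card_iff_ne_bot.mpr hN
  have hpos : 0 < Nat.card (G ⧸ N) := Nat.card_pos
  nlinarith

end Cfsg.Agent.H52.V12

namespace Cfsg.Agent.H52.V12

theorem card_comap_mk' {G : Type*} [Group G] (N : Subgroup G) [N.Normal]
    (K : Subgroup (G ⧸ N)) :
    Nat.card (K.comap (QuotientGroup.mk' N)) = Nat.card N * Nat.card K :=
  QuotientGroup.card_preimage_mk N (K : Set (G ⧸ N))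

theorem card_mul_relIndex {G : Type*} [Group G] {H K : Subgroup G} (h : H ≤ K) :
    Nat.card H * H.relIndex K = Nat.card K := by
  have := Subgroup.relIndex_mul_relIndex ⊥ H K bot_le h
  rwa [Subgroup.relIndex_bot_left, Subgroup.relIndex_bot_left] at this

theorem le_comap_mk' {G : Type*} [Group G] (N : Subgroup G) [N.Normal]
    (K : Subgroup (G ⧸ N)) : N ≤ K.comap (QuotientGroup.mk' N) := by
  intro x hx
  rw [Subgroup.mem_comap]
  have : QuotientGroup.mk' N x = 1 := (QuotientGroup.eq_one_iff x).mpr hx
  rw [this]; exact K.one_mem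

end Cfsg.Agent.H52.V12
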