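import Mathlib
import Cfsg.Agent.H52.V12Basic

/-!
# Index lemmas (helper12)
-/

set_option autoImplicit false
open Pointwise

namespace Cfsg.Agent.H52.V12

variable {G : Type*} [Group G]

/-- For `N` normal in a finite group: `|N ∩ P| * |P N : P| = |N|`. -/
theorem card_inf_mul_relIndex_sup' (P N : Subgroup G) [Finite G] [N.Normal] :
    Nat.card (N ⊓ P : Subgroup G) * P.relIndex (P ⊔ N) = Nat.card N := by
  have h1 : N.relIndex (P ⊔ N) = N.relIndex P := Subgroup.relIndex_sup_right P N
  have h2 : Nat.card N * N.relIndex (P ⊔ N) = Nat.card (P ⊔ N : Subgroup G) :=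
    card_mul_relIndex le_sup_right
  have h3 : Nat.card (N ⊓ P : Subgroup G) * (N ⊓ P).relIndex P = Nat.card P :=
    card_mul_relIndex inf_le_right
  rw [Subgroup.inf_relIndex_right] at h3
  have h4 : Nat.card P * P.relIndex (P ⊔ N) = Nat.card (P ⊔ N : Subgroup G) :=
    card_mul_relIndex le_sup_left
  have h5 : N.relIndex P ≠ 0 := Subgroup.index_ne_zero_of_finite
  have h6 : N.relIndex P * (Nat.card (N ⊓ P : Subgroup G) * P.relIndex (P ⊔ N)) =
      N.relIndex P * Nat.card N := by
    calc N.relIndex P * (Nat.card (N ⊓ P : Subgroup G) * P.relIndex (P ⊔ N))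
        = (Nat.card (N ⊓ P : Subgroup G) * N.relIndex P) * P.relIndex (P ⊔ N) := by ring
      _ = Nat.card (P ⊔ N : Subgroup G) := by rw [h3, h4]
      _ = N.relIndex P * Nat.card N := by rw [← h2, h1]; ring
  exact Nat.eq_of_mul_eq_mul_left (Nat.pos_of_ne_zero h5) h6

/-- For `N` normal in a finite group: `|P N : P| = |N : N ∩ P|`. -/
theorem relIndex_sup_eq_relIndex_of_normal [Finite G] (P N : Subgroup G) [N.Normal] :
    P.relIndex (P ⊔ N) = P.relIndex N := by
  have h1 := card_inf_mul_relIndex_sup' P N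
  have h2 : Nat.card (N ⊓ P : Subgroup G) * (N ⊓ P).relIndex N = Nat.card N :=
    card_mul_relIndex inf_le_left
  have h3 : P.relIndex (P ⊔ N) = (N ⊓ P).relIndex N :=
    Nat.eq_of_mul_eq_mul_left Nat.card_pos (h1.trans h2.symm)
  rwa [Subgroup.inf_relIndex_left] at h3

/-- For `N` normal in a finite group: `|N : N ∩ P|` divides `|G : P|`. -/
theorem relIndex_dvd_index_of_normal_right [Finite G] (P N : Subgroup G) [N.Normal] :
    P.relIndex N ∣ P.index := by
  rw [← relIndex_sup_eq_relIndex_of_normal P N]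
  exact Subgroup.relIndex_dvd_index_of_le le_sup_left

end Cfsg.Agent.H52.V12
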