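import Mathlib
import Cfsg.Agent.H52.ThOff
import Cfsg.Agent.H28.Coprime
import Cfsg.Agent.H52.V12Basic

set_option autoImplicit false

namespace Cfsg.Agent.H52

section Off2

variable {H V : Type*} [Group H] [CommGroup V]

/-- A `2`-group `B` normalizing an odd-order group `L`, both acting on an elementary abelian
`2`-group `V`: if `L` fixes the fixed points of `B` then `L` acts trivially. -/
theorem trivial_of_fix_fixV [Finite H] [Finite V] (ρ : H →* MulAut V) (hV2 : ∀ v : V, v * v = 1)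
    (L B : Subgroup H) (hLodd : ¬ 2 ∣ Nat.card L) (hB2 : ∀ b ∈ B, b * b = 1)
    (hBL : ∀ b ∈ B, ∀ l ∈ L, b * l * b⁻¹ ∈ L)
    (hfix : ∀ l ∈ L, ∀ w ∈ fixV ρ B, ρ l w = w) :
    ∀ l ∈ L, ∀ v, ρ l v = v := by
  classical
  haveI : Fintype L := Fintype.ofFinite L
  obtain ⟨N, hN⟩ : ∃ N : V →* V, N = ∏ l : L, (ρ (l : H)).toMonoidHom := ⟨_, rfl⟩
  have hNapp : ∀ v, N v = ∏ l : L, ρ (l : H) v := fun v => by
    rw [hN, MonoidHom.finsetProd_apply]; rfl
  have hNinv : ∀ (l₀ : L) (v : V), N (ρ (l₀ : H) v) = N v := by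
    intro l₀ v
    rw [hNapp, hNapp]
    have h1 : ∀ l : L, ρ (l : H) (ρ (l₀ : H) v) = ρ ((l * l₀ : L) : H) v := fun l => by
      rw [Subgroup.coe_mul, map_mul, MulAut.mul_apply]
    simp_rw [h1]
    exact Fintype.prod_equiv (Equiv.mulRight l₀) _ _ (fun l => rfl)
  obtain ⟨W, hW⟩ : ∃ W : Subgroup V, W = ⨆ l : L, (commHom ρ (l : H)).range := ⟨_, rfl⟩
  have hWN : W ≤ N.ker := by
    rw [hW]
    apply iSup_le
    rintro l _ ⟨v, rfl⟩
    rw [MonoidHom.mem_ker, commHom_apply, map_div, hNinv, div_self']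
  have hWinv : ∀ b ∈ B, ∀ w ∈ W, ρ b w ∈ W := by
    intro b hb w hw
    have hmap : W.map (ρ b).toMonoidHom ≤ W := by
      rw [hW, Subgroup.map_iSup]
      apply iSup_le
      rintro l _ ⟨_, ⟨v, rfl⟩, rfl⟩
      have hl' : b * (l : H) * b⁻¹ ∈ L := hBL b hb l l.2
      apply Subgroup.mem_iSup_of_mem (⟨_, hl'⟩ : L)
      refine ⟨ρ b v, ?_⟩
      show commHom ρ (b * (l : H) * b⁻¹) (ρ b v) = ρ b (commHom ρ (l : H) v)
      have e1 : ρ b⁻¹ (ρ b v) = v := by
        rw [← MulAut.mul_apply, ← map_mul, inv_mul_cancel, map_one, MulAut.one_apply]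
      rw [commHom_apply, commHom_apply, map_div, map_mul, map_mul, MulAut.mul_apply,
        MulAut.mul_apply, e1]
    exact hmap ⟨w, hw, rfl⟩
  by_contra hcon
  push Not at hcon
  obtain ⟨l, hl, v, hv⟩ := hcon
  have hWne : W ≠ ⊥ := by
    intro hbot
    have h1 : commHom ρ l v ∈ W := by
      rw [hW]
      exact Subgroup.mem_iSup_of_mem (⟨l, hl⟩ : L) ⟨v, rfl⟩
    rw [hbot, Subgroup.mem_bot, commHom_apply, div_eq_one] at h1
    exact hv h1
  obtain ⟨w, hwW, hw1, hwB⟩ := exists_fixed_ne_one_act ρ hV2 B hB2 W hWinv hWne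
  have hwL : ∀ l : L, ρ (l : H) w = w := fun l => hfix l l.2 w hwB
  have hNw : N w = w := by
    rw [hNapp]
    simp_rw [hwL]
    rw [Finset.prod_const, Finset.card_univ, ← Nat.card_eq_fintype_card]
    obtain ⟨m, hm⟩ : ∃ m, Nat.card L = 2 * m + 1 := ⟨Nat.card L / 2, by omega⟩
    rw [hm, pow_succ, pow_mul, pow_two, hV2, one_pow, one_mul]
  have hNw1 : N w = 1 := hWN hwW
  exact hw1 (hNw ▸ hNw1)

/-- An involution `b` with fixed points of index at most two (a transvection) inverting a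
nontrivial element `k` of an odd-order group acting faithfully: `k` has order three and `[V, k]`
is a four-group on which `k` acts fixed-point-freely. -/
theorem transvection_S3 [Finite H] [Finite V] (ρ : H →* MulAut V) (hV2 : ∀ v : V, v * v = 1)
    (Kb : Subgroup H) (hKodd : ∀ x ∈ Kb, ¬ 2 ∣ orderOf x)
    (hfaithV : ∀ k ∈ Kb, (∀ v, ρ k v = v) → k = 1)
    (b : H) (hbb : b * b = 1) (k : H) (hkK : k ∈ Kb) (hk1 : k ≠ 1) (hbk : b * k * b⁻¹ = k⁻¹)
    (hFbidx : (commHom ρ b).ker.index ≤ 2) :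
    k ^ 3 = 1 ∧ Nat.card (commHom ρ k).range = 4 ∧
      ∀ w ∈ (commHom ρ k).range, ρ k w = w → w = 1 := by
  classical
  have hbinv : b⁻¹ = b := inv_eq_self_of_sq hbb
  have hkodd := hKodd k hkK
  have hrange_inv : ∀ (k d : H), Commute d k → ∀ w ∈ (commHom ρ k).range,
      ρ d w ∈ (commHom ρ k).range := by
    intro k d hdk w hw
    obtain ⟨v, rfl⟩ := hw
    refine ⟨ρ d v, ?_⟩
    rw [commHom_apply, commHom_apply, map_div, ← MulAut.mul_apply, ← MulAut.mul_apply,
      ← map_mul, ← map_mul, hdk.eq]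
  have hfpf : ∀ k ∈ Kb, ∀ w ∈ (commHom ρ k).range, ρ k w = w → w = 1 := by
    intro k hk w hw hkw
    obtain ⟨v, rfl⟩ := hw
    rw [commHom_apply] at hkw ⊢
    exact comm_fixed_eq_one ρ hV2 k (hKodd k hk) v hkw
  have hrange_ne : ∀ k ∈ Kb, k ≠ 1 → (commHom ρ k).range ≠ ⊥ := by
    intro k hk hk1 hbot
    apply hk1
    apply hfaithV k hk
    intro v
    have : commHom ρ k v ∈ (commHom ρ k).range := ⟨v, rfl⟩
    rw [hbot, Subgroup.mem_bot, commHom_apply, div_eq_one] at this
    exact this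
  have hFb'idx : ((commHom ρ b).ker.comap (ρ k⁻¹).toMonoidHom).index ≤ 2 := by
    rw [Subgroup.index_comap_of_surjective _ (MulEquiv.surjective _)]
    exact hFbidx
  have hle : (commHom ρ b).ker ⊓ (commHom ρ b).ker.comap (ρ k⁻¹).toMonoidHom ≤
      (commHom ρ k).ker := by
    intro v hv
    obtain ⟨hv1, hv2⟩ := Subgroup.mem_inf.1 hv
    rw [MonoidHom.mem_ker, commHom_apply, div_eq_one] at hv1
    have hv2' : ρ b (ρ k⁻¹ v) = ρ k⁻¹ v := by
      have : (ρ k⁻¹).toMonoidHom v ∈ (commHom ρ b).ker := hv2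
      rw [MonoidHom.mem_ker, commHom_apply, div_eq_one] at this
      exact this
    rw [MonoidHom.mem_ker, commHom_apply, div_eq_one]
    apply fixed_of_sq_fixed ρ k hkodd
    have hbk' : b * k⁻¹ * b⁻¹ = k := by
      have : b * k⁻¹ * b⁻¹ = (b * k * b⁻¹)⁻¹ := by group
      rw [this, hbk, inv_inv]
    have h3 : ρ k v = ρ k⁻¹ v := by
      conv_lhs => rw [← hbk']
      rw [map_mul, map_mul, MulAut.mul_apply, MulAut.mul_apply, hbinv, hv1, hv2']
    rw [map_mul, MulAut.mul_apply, h3, ← MulAut.mul_apply, ← map_mul, mul_inv_cancel, map_one,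
      MulAut.one_apply]
  have hFkidx : (commHom ρ k).ker.index ≤ 4 := by
    have h1 := Subgroup.index_dvd_of_le hle
    have h2 : ((commHom ρ b).ker ⊓ (commHom ρ b).ker.comap (ρ k⁻¹).toMonoidHom).index ≤
        (commHom ρ b).ker.index * ((commHom ρ b).ker.comap (ρ k⁻¹).toMonoidHom).index :=
      Subgroup.index_inf_le
    have h3 : ((commHom ρ b).ker ⊓ (commHom ρ b).ker.comap (ρ k⁻¹).toMonoidHom).index ≠ 0 :=
      Subgroup.index_ne_zero_of_finite
    have h4 := Nat.le_of_dvd (Nat.pos_of_ne_zero h3) h1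
    nlinarith
  obtain ⟨W, hW⟩ : ∃ W, W = (commHom ρ k).range := ⟨_, rfl⟩
  have hWcard : Nat.card W ≤ 4 := by rw [hW, ← Subgroup.index_ker]; exact hFkidx
  have hWne : W ≠ ⊥ := by rw [hW]; exact hrange_ne k hkK hk1
  obtain ⟨w₀, hw₀, hw₀1⟩ : ∃ w ∈ W, w ≠ 1 := by
    by_contra hcon
    push Not at hcon
    exact hWne ((Subgroup.eq_bot_iff_forall W).2 hcon)
  have hWk : ∀ w ∈ W, ρ k w ∈ W := by
    rw [hW]; exact fun w hw => hrange_inv k k (Commute.refl k) w hw
  have hWfpf : ∀ w ∈ W, ρ k w = w → w = 1 := by rw [hW]; exact hfpf k hkK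
  have hordw : orderOf w₀ = 2 := by
    haveI : Fact (Nat.Prime 2) := ⟨Nat.prime_two⟩
    exact orderOf_eq_prime (by rw [pow_two]; exact hV2 w₀) hw₀1
  have hW4 : Nat.card W = 4 := by
    have h2 : 2 ∣ Nat.card W := by
      have h := Subgroup.card_dvd_of_le (Subgroup.zpowers_le.2 hw₀)
      rwa [Nat.card_zpowers, hordw] at h
    have hne2 : Nat.card W ≠ 2 := by
      intro h
      have hz : Subgroup.zpowers w₀ = W := by
        apply Subgroup.eq_of_le_of_card_ge (Subgroup.zpowers_le.2 hw₀)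
        rw [Nat.card_zpowers, hordw, h]
      have h3 : ρ k w₀ ∈ Subgroup.zpowers w₀ := by rw [hz]; exact hWk w₀ hw₀
      rcases mem_zpowers_invol (hV2 w₀) h3 with h4 | h4
      · apply hw₀1
        have : ρ k w₀ = ρ k 1 := by rw [h4, map_one]
        exact (ρ k).injective this
      · exact hw₀1 (hWfpf w₀ hw₀ h4)
    have hpos : 0 < Nat.card W := Nat.card_pos
    obtain ⟨c, hc⟩ := h2
    omega
  have hstar : ∀ w ∈ W, w * ρ k w * ρ k (ρ k w) = 1 := by
    intro w hw
    by_cases hw1 : w = 1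
    · rw [hw1]; simp
    · have hx1 : ρ k w ≠ 1 := by
        intro h
        apply hw1
        have : ρ k w = ρ k 1 := by rw [h, map_one]
        exact (ρ k).injective this
      have hxw : w ≠ ρ k w := fun h => hw1 (hWfpf w hw h.symm)
      have h4 := four_elts (W := ↥W) hW4 (fun v => Subtype.ext (hV2 v)) ⟨w, hw⟩
        ⟨ρ k w, hWk w hw⟩
        (fun h => hw1 (congrArg Subtype.val h)) (fun h => hx1 (congrArg Subtype.val h))
        (fun h => hxw (congrArg Subtype.val h)) ⟨ρ k (ρ k w), hWk _ (hWk w hw)⟩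
      rcases h4 with h | h | h | h
      · exfalso
        have h' : ρ k (ρ k w) = 1 := congrArg Subtype.val h
        apply hx1
        have : ρ k (ρ k w) = ρ k 1 := by rw [h', map_one]
        exact (ρ k).injective this
      · exfalso
        have h' : ρ k (ρ k w) = w := congrArg Subtype.val h
        have hfix : ρ k (w * ρ k w) = w * ρ k w := by rw [map_mul, h', mul_comm]
        have h6 := hWfpf _ (W.mul_mem hw (hWk w hw)) hfix
        apply hxw
        have h5 : w * ρ k w = w * w := by rw [h6, hV2]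
        exact (mul_left_cancel h5).symm
      · exfalso
        have h' : ρ k (ρ k w) = ρ k w := congrArg Subtype.val h
        exact hx1 (hWfpf _ (hWk w hw) h')
      · have h' : ρ k (ρ k w) = w * ρ k w := congrArg Subtype.val h
        rw [h']
        exact hV2 _
  have hk3 : k ^ 3 = 1 := by
    apply hfaithV _ (Kb.pow_mem hkK 3)
    intro v
    obtain ⟨w, hwdef⟩ : ∃ w, w = commHom ρ k v := ⟨_, rfl⟩
    have hw : w ∈ W := by rw [hW, hwdef]; exact ⟨v, rfl⟩
    have hkv : ρ k v = w * v := by rw [hwdef, commHom_apply]; simp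
    have h1 := hstar _ hw
    have e : ρ (k ^ 3) v = ρ k (ρ k (ρ k v)) := by
      rw [pow_succ, pow_two, map_mul, map_mul, MulAut.mul_apply, MulAut.mul_apply]
    rw [e]
    calc ρ k (ρ k (ρ k v)) = ρ k (ρ k (w * v)) := by rw [hkv]
      _ = ρ k (ρ k w) * ρ k (ρ k v) := by rw [map_mul, map_mul]
      _ = ρ k (ρ k w) * ρ k (w * v) := by rw [hkv]
      _ = ρ k (ρ k w) * (ρ k w * ρ k v) := by rw [map_mul]
      _ = ρ k (ρ k w) * (ρ k w * (w * v)) := by rw [hkv]
      _ = (w * ρ k w * ρ k (ρ k w)) * v := by ac_rfl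
      _ = v := by rw [h1, one_mul]
  refine ⟨hk3, ?_, ?_⟩
  · rw [← hW]; exact hW4
  · rw [← hW]; exact hWfpf

/-- **Offender lemma** (general odd-order version): an elementary abelian `2`-group `Ab` acting
faithfully on a group `Kb` of odd order, both acting on an elementary abelian `2`-group `V` on
which `Kb` is faithful, with `Ab` an offender on `V`, contains an involution `b` inverting an
element `y` of order three of `Kb` such that `[V, y]` is a four-group on which `y` acts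
fixed-point-freely. -/
theorem offender_S3' [Finite H] [Finite V] (ρ : H →* MulAut V) (hV2 : ∀ v : V, v * v = 1)
    (Kb Ab : Subgroup H) (hKodd : ¬ 2 ∣ Nat.card Kb) (hA2 : ∀ a ∈ Ab, a * a = 1)
    (hAK : ∀ a ∈ Ab, ∀ k ∈ Kb, a * k * a⁻¹ ∈ Kb)
    (hfaithK : ∀ a ∈ Ab, (∀ k ∈ Kb, a * k * a⁻¹ = k) → a = 1)
    (hfaithV : ∀ k ∈ Kb, (∀ v, ρ k v = v) → k = 1)
    (hne : Ab ≠ ⊥) (hoff : Nat.card V ≤ Nat.card Ab * Nat.card (fixV ρ Ab)) :
    ∃ b ∈ Ab, ∃ y ∈ Kb, y ≠ 1 ∧ y ^ 3 = 1 ∧ b * y * b⁻¹ = y⁻¹ ∧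
      Nat.card (commHom ρ y).range = 4 ∧
      ∀ w ∈ (commHom ρ y).range, ρ y w = w → w = 1 := by
  classical
  haveI : Fact (Nat.Prime 2) := ⟨Nat.prime_two⟩
  have hKodd' : ∀ x ∈ Kb, ¬ 2 ∣ orderOf x := by
    intro x hx h2
    apply hKodd
    have h1 : orderOf (⟨x, hx⟩ : Kb) ∣ Nat.card Kb := orderOf_dvd_natCard _
    rw [Subgroup.orderOf_mk] at h1
    exact h2.trans h1
  have hcommA : ∀ x ∈ Ab, ∀ y ∈ Ab, Commute x y := fun x hx y hy => comm_of_sq_one hA2 hx hy
  let 𝓑 := {B : Subgroup H // B ≤ Ab ∧ B ≠ ⊥ ∧ Nat.card V ≤ Nat.card B * Nat.card (fixV ρ B)}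
  haveI : Nonempty 𝓑 := ⟨⟨Ab, le_rfl, hne, hoff⟩⟩
  obtain ⟨⟨B, hBA, hBne, hBoff⟩, hBmin⟩ :=
    Finite.exists_min (fun B : 𝓑 => Nat.card (B.1 : Subgroup H))
  have hBmin' : ∀ B' : Subgroup H, B' ≤ Ab → B' ≠ ⊥ →
      Nat.card V ≤ Nat.card B' * Nat.card (fixV ρ B') → Nat.card B ≤ Nat.card B' :=
    fun B' h1 h2 h3 => hBmin ⟨B', h1, h2, h3⟩
  obtain ⟨b, hbB, hb1⟩ : ∃ b ∈ B, b ≠ 1 := by
    by_contra hcon
    push Not at hcon
    exact hBne ((Subgroup.eq_bot_iff_forall B).2 hcon)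
  have hbA := hBA hbB
  have hbb := hA2 b hbA
  have hBel : Cfsg.IsElementaryAbelian 2 B := by
    refine ⟨?_, fun a ha => by rw [pow_two]; exact hA2 a (hBA ha)⟩
    rw [← Subgroup.le_centralizer_iff_isMulCommutative]
    intro x hx
    rw [Subgroup.mem_centralizer_iff]
    intro y hy
    exact (hcommA y (hBA hy) x (hBA hx)).eq
  have hBp : IsPGroup 2 B := fun x => ⟨1, by
    apply Subtype.ext
    simp [pow_two, hA2 x (hBA x.2)]⟩
  have hB2 : Nat.card B = 2 := by
    by_contra hB2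
    obtain ⟨n, hn⟩ := IsPGroup.iff_card.1 hBp
    have hn2 : 2 ≤ n := by
      by_contra hlt
      push Not at hlt
      interval_cases n
      · exact hBne (Subgroup.card_eq_one.1 (by simpa using hn))
      · exact hB2 (by simpa using hn)
    have h4 : 2 ^ 2 ≤ Nat.card B := by rw [hn]; exact Nat.pow_le_pow_right (by norm_num) hn2
    have hBK : B ≤ Subgroup.normalizer (Kb : Set H) := by
      intro x hx
      rw [Subgroup.mem_normalizer_iff]
      intro h
      constructor
      · intro hh; exact hAK x (hBA hx) h hh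
      · intro hh
        have h1 := hAK x⁻¹ (Ab.inv_mem (hBA hx)) _ hh
        have e : x⁻¹ * (x * h * x⁻¹) * x⁻¹⁻¹ = h := by group
        rwa [e] at h1
    have hgen := Cfsg.Agent.H28.le_iSup_hyperplane_centralizers 2 B Kb hBel h4 hKodd hBK
    obtain ⟨L₀, hL₀⟩ : ∃ L₀ : Subgroup H, ∀ k, k ∈ L₀ ↔ k ∈ Kb ∧ ∀ w ∈ fixV ρ B, ρ k w = w := by
      refine ⟨{ carrier := {k | k ∈ Kb ∧ ∀ w ∈ fixV ρ B, ρ k w = w}
                mul_mem' := ?_
                one_mem' := ?_
                inv_mem' := ?_ }, fun k => Iff.rfl⟩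
      · rintro x y ⟨hx1, hx2⟩ ⟨hy1, hy2⟩
        refine ⟨Kb.mul_mem hx1 hy1, fun w hw => ?_⟩
        rw [map_mul, MulAut.mul_apply, hy2 w hw, hx2 w hw]
      · exact ⟨Kb.one_mem, fun w _ => by rw [map_one, MulAut.one_apply]⟩
      · rintro x ⟨hx1, hx2⟩
        refine ⟨Kb.inv_mem hx1, fun w hw => ?_⟩
        conv_lhs => rw [← hx2 w hw]
        rw [← MulAut.mul_apply, ← map_mul, inv_mul_cancel, map_one, MulAut.one_apply]
    have hL₀triv : ∀ l ∈ L₀, l = 1 := by
      intro l hl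
      apply hfaithV l ((hL₀ l).1 hl).1
      apply trivial_of_fix_fixV ρ hV2 L₀ B ?_ (fun b hb => hA2 b (hBA hb)) ?_
        (fun l hl => ((hL₀ l).1 hl).2) l hl
      · intro h2
        exact hKodd (h2.trans (Subgroup.card_dvd_of_le (fun x hx => ((hL₀ x).1 hx).1)))
      · intro c hc l hl
        rw [hL₀] at hl ⊢
        refine ⟨hAK c (hBA hc) l hl.1, fun w hw => ?_⟩
        have h1 : ρ c⁻¹ w = w := hw c⁻¹ (B.inv_mem hc)
        rw [map_mul, map_mul, MulAut.mul_apply, MulAut.mul_apply, h1, hl.2 w hw]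
        exact hw c hc
    have hcent : ∀ D : {D : Subgroup H // D ≤ B ∧ D.relIndex B = 2},
        Kb ⊓ Subgroup.centralizer ((D : Subgroup H) : Set H) ≤
          Subgroup.centralizer (B : Set H) := by
      rintro ⟨D, hDB, hDrel⟩ k hk
      obtain ⟨hkK, hkD⟩ := Subgroup.mem_inf.1 hk
      have hcardB : Nat.card B = Nat.card D * 2 := by
        rw [← hDrel]; exact (V12.card_mul_relIndex hDB).symm
      have hDne : D ≠ ⊥ := by
        intro h
        rw [h, Subgroup.card_bot] at hcardB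
        omega
      have hDnot : ¬ Nat.card V ≤ Nat.card D * Nat.card (fixV ρ D) := by
        intro h
        have := hBmin' D (hDB.trans hBA) hDne h
        have hpos : 0 < Nat.card D := Nat.card_pos
        omega
      have hle : fixV ρ B ≤ fixV ρ D := fun v hv d hd => hv d (hDB hd)
      have hfixeq : fixV ρ B = fixV ρ D := by
        apply Subgroup.eq_of_le_of_card_ge hle
        obtain ⟨j, hj⟩ := Subgroup.card_dvd_of_le hle
        have hpos : 0 < Nat.card (fixV ρ D) := Nat.card_pos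
        have hposB : 0 < Nat.card (fixV ρ B) := Nat.card_pos
        have hposD : 0 < Nat.card D := Nat.card_pos
        push Not at hDnot
        rw [hcardB] at hBoff
        have hj2 : j < 2 := by
          by_contra hcon
          push Not at hcon
          have h1 : Nat.card D * Nat.card (fixV ρ D) < Nat.card D * 2 * Nat.card (fixV ρ B) :=
            lt_of_lt_of_le hDnot hBoff
          rw [hj] at h1
          have h2 : Nat.card (fixV ρ B) * 2 ≤ Nat.card (fixV ρ B) * j :=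
            Nat.mul_le_mul_left _ hcon
          nlinarith
        have hj1 : j = 1 := by
          rcases Nat.eq_zero_or_pos j with h0 | h0
          · rw [h0, mul_zero] at hj; omega
          · omega
        rw [hj, hj1, mul_one]
      rw [Subgroup.mem_centralizer_iff]
      intro c hc
      have hx : k⁻¹ * (c * k * c⁻¹) ∈ L₀ := by
        rw [hL₀]
        refine ⟨Kb.mul_mem (Kb.inv_mem hkK) (hAK c (hBA hc) k hkK), fun w hw => ?_⟩
        have hwD : w ∈ fixV ρ D := hle hw
        have hkw : ρ k w ∈ fixV ρ B := by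
          rw [hfixeq]
          intro d hd
          have hdk : d * k = k * d := Subgroup.mem_centralizer_iff.1 hkD d hd
          rw [← MulAut.mul_apply, ← map_mul, hdk, map_mul, MulAut.mul_apply, hwD d hd]
        have h1 : ρ c⁻¹ w = w := hw c⁻¹ (B.inv_mem hc)
        have h2 : ρ c (ρ k w) = ρ k w := hkw c hc
        rw [map_mul, map_mul, map_mul, MulAut.mul_apply, MulAut.mul_apply, MulAut.mul_apply, h1,
          h2, ← MulAut.mul_apply, ← map_mul, inv_mul_cancel, map_one, MulAut.one_apply]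
      have hx1 := hL₀triv _ hx
      have h3 : k = c * k * c⁻¹ := inv_mul_eq_one.1 hx1
      calc c * k = (c * k * c⁻¹) * c := by group
        _ = k * c := by rw [← h3]
    have hKcent : Kb ≤ Subgroup.centralizer (B : Set H) := hgen.trans (iSup_le hcent)
    apply hb1
    apply hfaithK b hbA
    intro k hk
    have h1 : b * k = k * b := Subgroup.mem_centralizer_iff.1 (hKcent hk) b hbB
    rw [h1]; group
  have hordb : orderOf b = 2 := orderOf_eq_prime (by rw [pow_two]; exact hbb) hb1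
  have hBz : Subgroup.zpowers b = B := by
    apply Subgroup.eq_of_le_of_card_ge (Subgroup.zpowers_le.2 hbB)
    rw [Nat.card_zpowers, hordb, hB2]
  obtain ⟨k, hkK, hk1, hbk⟩ := exists_inverted hA2 hAK hfaithK hbA hb1
  have hFbeq : fixV ρ B = (commHom ρ b).ker := by
    ext v
    rw [mem_fixV, MonoidHom.mem_ker, commHom_apply, div_eq_one]
    constructor
    · intro h; exact h b hbB
    · intro h x hx
      rw [← hBz] at hx
      rcases mem_zpowers_invol hbb hx with rfl | rfl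
      · simp
      · exact h
  have hFbidx : (commHom ρ b).ker.index ≤ 2 := by
    have h1 := Subgroup.card_mul_index (commHom ρ b).ker
    rw [hFbeq, hB2] at hBoff
    have hpos : 0 < Nat.card (commHom ρ b).ker := Nat.card_pos
    by_contra hcon
    push Not at hcon
    nlinarith
  obtain ⟨hk3, hW4, hWfpf⟩ :=
    transvection_S3 ρ hV2 Kb hKodd' hfaithV b hbb k hkK hk1 hbk hFbidx
  exact ⟨b, hbA, k, hkK, hk1, hk3, hbk, hW4, hWfpf⟩

end Off2

end Cfsg.Agent.H52
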