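import Cfsg.Agent.H64.JzDefs

/-!
# S2953 (two `J(T)`-components `K₁ ≠ K₂` with `O₂(⟨K₁T, K₂T⟩) = 1`): statements of the pieces

`Base S M T K L` (from `H64.JzDefs`) = the hypotheses of S2951: `ZN G`, `O₂(G) = 1`, `M` a 2-local
over `N_G(J(S))`, `T ∈ 𝒯*(M)`, `T ≤ S`, `K ∈ 𝒦_{G∖M}(T)`, `L` a maximal 2-local over `K J(T)`.
-/

set_option autoImplicit false
open Cfsg

namespace Cfsg.Agent.H52.Jw

open Cfsg.Agent.H64.Jz

universe u

/-- The per-`P` clauses of S2953. -/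
def PClauses {G : Type u} [Group G] (T P : Subgroup G) : Prop :=
  Subgroup.centralizer (pCoreOf 2 P : Set G) ≤ pCoreOf 2 P ∧ IsSylowTwoIn T P ∧
  (pCoreOf 2 P).relIndex P = 6 ∧ ¬ ⁅P, P⁆ ≤ pCoreOf 2 P ∧ ⁅omegaCenterOf T, P⁆ ≠ ⊥ ∧
  ∃ L : Subgroup G, IsMaximalTwoLocal L ∧ P ≤ L ∧ IsSylowTwoIn T L ∧
    ∀ L' : Subgroup G, IsMaximalTwoLocal L' → P ≤ L' → L' = L

/-- W-S: a 2-subgroup of `M` lies in a Sylow 2-subgroup `S'` of `G` with `N_G(J(S')) ≤ M`. -/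
def StS : Prop := ∀ {G : Type u} [Group G] [Finite G] (S : Sylow 2 G) (M T : Subgroup G),
  Subgroup.normalizer (thompsonSubgroupOf 2 (S : Subgroup G) : Set G) ≤ M → IsPGroup 2 ↥T →
  T ≤ M →
  ∃ S' : Sylow 2 G,
    Subgroup.normalizer (thompsonSubgroupOf 2 (S' : Subgroup G) : Set G) ≤ M ∧
      T ≤ (S' : Subgroup G)

/-- W-CONJ: an element of `M ∩ N_G(T)` outside `L` gives a second configuration. -/
def StConjX : Prop := ∀ {G : Type u} [Group G] [Finite G] (S : Sylow 2 G)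
    (M T K L : Subgroup G), Base S M T K L →
  ∀ x ∈ M, x ∈ Subgroup.normalizer (T : Set G) → x ∉ L →
  ∃ K₂ L₂ : Subgroup G, Base S M T K₂ L₂ ∧ L₂ ≠ L

/-- W-LT: for `T ≠ S` there is an element of `M ∩ N_G(T)` outside `L`. -/
def StLtX : Prop := ∀ {G : Type u} [Group G] [Finite G] (S : Sylow 2 G)
    (M T K L : Subgroup G), Base S M T K L → T ≠ (S : Subgroup G) →
  ∃ x ∈ M, x ∈ Subgroup.normalizer (T : Set G) ∧ x ∉ L

/-- W-EQ: for `T = S` and `N_G(S) ⊄ L` there is an element of `M ∩ N_G(S)` outside `L`. -/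
def StEqX : Prop := ∀ {G : Type u} [Group G] [Finite G] (S : Sylow 2 G) (M K L : Subgroup G),
  Base S M (S : Subgroup G) K L → ¬ Subgroup.normalizer ((S : Subgroup G) : Set G) ≤ L →
  ∃ x ∈ M, x ∈ Subgroup.normalizer ((S : Subgroup G) : Set G) ∧ x ∉ L

/-- W-NJ: for `T = S`: `N_G(J(S)) ≤ N_G(S)`. -/
def StNJ : Prop := ∀ {G : Type u} [Group G] [Finite G] (S : Sylow 2 G) (M K L : Subgroup G),
  Base S M (S : Subgroup G) K L →
  Subgroup.normalizer (thompsonSubgroupOf 2 (S : Subgroup G) : Set G) ≤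
    Subgroup.normalizer ((S : Subgroup G) : Set G)

/-- W-REBASE: for `T = S`, `N_G(S) ≤ L` and a 2-local over `S` outside `L`: `L` is a legal base
and there is a configuration for it. -/
def StRebase : Prop := ∀ {G : Type u} [Group G] [Finite G] (S : Sylow 2 G)
    (M K L : Subgroup G), Base S M (S : Subgroup G) K L →
  Subgroup.normalizer ((S : Subgroup G) : Set G) ≤ L →
  (∃ X : Subgroup G, IsTwoLocal X ∧ (S : Subgroup G) ≤ X ∧ ¬ X ≤ L) →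
  ∃ K₂ L₂ : Subgroup G, Base S L (S : Subgroup G) K₂ L₂ ∧ L₂ ≠ L

/-- W-TWO: two configurations for the same `T` with different maximal 2-locals. -/
def StTwo : Prop := ∀ {G : Type u} [Group G] [Finite G] (S : Sylow 2 G)
    (M₁ M₂ T K₁ K₂ L₁ L₂ : Subgroup G), Base S M₁ T K₁ L₁ → Base S M₂ T K₂ L₂ → L₁ ≠ L₂ →
  K₁ ≠ K₂ ∧ pCoreOf 2 ((K₁ ⊔ T) ⊔ (K₂ ⊔ T)) = ⊥

/-- W-PC: `C_G(O₂(P)) ≤ O₂(P)` for `P = ⟨K, T⟩`. -/
def StPC : Prop := ∀ {G : Type u} [Group G] [Finite G] (S : Sylow 2 G) (M T K L : Subgroup G),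
  Base S M T K L →
  Subgroup.centralizer (pCoreOf 2 (K ⊔ T) : Set G) ≤ pCoreOf 2 (K ⊔ T)

/-- W-PS: `T` is a Sylow 2-subgroup of `P = ⟨K, T⟩`. -/
def StPS : Prop := ∀ {G : Type u} [Group G] [Finite G] (S : Sylow 2 G) (M T K L : Subgroup G),
  Base S M T K L → IsSylowTwoIn T (K ⊔ T)

/-- W-P6: `|P : O₂(P)| = 6` and `P / O₂(P)` is not abelian. -/
def StP6 : Prop := ∀ {G : Type u} [Group G] [Finite G] (S : Sylow 2 G) (M T K L : Subgroup G),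
  Base S M T K L →
  (pCoreOf 2 (K ⊔ T)).relIndex (K ⊔ T) = 6 ∧ ¬ ⁅K ⊔ T, K ⊔ T⁆ ≤ pCoreOf 2 (K ⊔ T)

/-- W-PZ: `[Ω₁Z(T), P] ≠ 1`. -/
def StPZ : Prop := ∀ {G : Type u} [Group G] [Finite G] (S : Sylow 2 G) (M T K L : Subgroup G),
  Base S M T K L → ⁅omegaCenterOf T, K ⊔ T⁆ ≠ ⊥

/-- W-PL: `L` is the only maximal 2-local over `P`, and `T` is a Sylow 2-subgroup of `L`. -/
def StPL : Prop := ∀ {G : Type u} [Group G] [Finite G] (S : Sylow 2 G) (M T K L : Subgroup G),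
  Base S M T K L →
  K ⊔ T ≤ L ∧ IsSylowTwoIn T L ∧
    ∀ L' : Subgroup G, IsMaximalTwoLocal L' → K ⊔ T ≤ L' → L' = L

/-- W-V, the kill: `T = S` with every 2-local over `S` inside `L` is impossible. -/
def StVKill : Prop := ∀ {G : Type u} [Group G] [Finite G] (S : Sylow 2 G) (M K L : Subgroup G),
  Base S M (S : Subgroup G) K L →
  (∀ X : Subgroup G, IsTwoLocal X → (S : Subgroup G) ≤ X → X ≤ L) → False

/-- The statement S2953. -/
def StMain53 : Prop := ∀ {G : Type u} [Group G] [Finite G],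
  IsCharacteristicTwoType G →
  (∀ N : Subgroup G, IsTwoLocal N → Group.IsSolvable ↥N) →
  (∀ S : Sylow 2 G, Subgroup.centralizer (omegaCenterOf (S : Subgroup G) : Set G) ≤
      Subgroup.normalizer ((S : Subgroup G) : Set G)) →
  pCore 2 G = ⊥ → ∀ (S : Sylow 2 G) (M : Subgroup G), IsTwoLocal M →
  Subgroup.normalizer (thompsonSubgroupOf 2 (S : Subgroup G) : Set G) ≤ M →
  ∀ (T : Subgroup G), T ∈ maxStraddlingTwoSubgroups M →
  ∃ K₁ K₂ : Subgroup G, K₁ ≠ K₂ ∧ IsJComponent T K₁ ∧ IsJComponent T K₂ ∧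
    pCoreOf 2 ((K₁ ⊔ T) ⊔ (K₂ ⊔ T)) = ⊥ ∧
    ∀ P ∈ [K₁ ⊔ T, K₂ ⊔ T], PClauses T P

end Cfsg.Agent.H52.Jw
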