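import Mathlib
import Cfsg.Prelude.Def_Local
import Cfsg.Prelude.Def_LocalStructure
import Cfsg.Agent.H52.Basic
import Cfsg.Agent.H52.Subnormal
import Cfsg.Agent.H52.SubnormalQuot
import Cfsg.Agent.H52.PReduced

set_option autoImplicit false

namespace Cfsg.Agent.H52

open Subgroup
open scoped commutatorElement

variable {G : Type*} [Group G]

/-- Averaging for crossed homomorphisms: a map `δ : E → A` into an abelian subgroup normalized by
`E` with `δ (x y) = δ x · ˣ(δ y)` that vanishes on `T ≤ E` satisfies `δ x ^ |E : T| = a · ˣ(a⁻¹)`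
for a fixed `a ∈ A`. -/
theorem crossed_hom_pow [Finite G] (A E T : Subgroup G)
    (hAc : ∀ a ∈ A, ∀ b ∈ A, a * b = b * a) (hEA : E ≤ Subgroup.normalizer (A : Set G))
    (hTE : T ≤ E) (δ : G → G) (hδA : ∀ x ∈ E, δ x ∈ A)
    (hδmul : ∀ x ∈ E, ∀ y ∈ E, δ (x * y) = δ x * (x * δ y * x⁻¹))
    (hδT : ∀ t ∈ T, δ t = 1) :
    ∃ a ∈ A, ∀ x ∈ E, δ x ^ (T.subgroupOf E).index = a * (x * a⁻¹ * x⁻¹) := by
  classical
  letI : CommGroup ↥A :=
    { (inferInstance : Group ↥A) with
      mul_comm := fun a b => Subtype.ext (hAc a a.2 b b.2) }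
  letI : Fintype (↥E ⧸ T.subgroupOf E) := Fintype.ofFinite _
  let g : ↥E → ↥A := fun x => ⟨δ (x : G), hδA x x.2⟩
  have hg : ∀ a b : ↥E, QuotientGroup.leftRel (T.subgroupOf E) a b → g a = g b := by
    intro a b hab
    rw [QuotientGroup.leftRel_apply] at hab
    have h1 : ((a⁻¹ * b : ↥E) : G) ∈ T := Subgroup.mem_subgroupOf.mp hab
    apply Subtype.ext
    show δ (a : G) = δ (b : G)
    have h3 : (b : G) = (a : G) * ((a⁻¹ * b : ↥E) : G) := by push_cast; group
    rw [h3, hδmul _ a.2 _ (hTE h1), hδT _ h1]; group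
  let f : ↥E ⧸ T.subgroupOf E → ↥A := fun c => Quotient.liftOn' c g hg
  refine ⟨((∏ c, f c : ↥A) : G), (∏ c, f c : ↥A).2, ?_⟩
  intro x hx
  let φ : ↥A →* ↥A :=
    { toFun := fun w => ⟨x * w * x⁻¹, (hEA hx w).mp w.2⟩
      map_one' := by apply Subtype.ext; simp
      map_mul' := by
        intro a b
        apply Subtype.ext
        show x * ((a : G) * (b : G)) * x⁻¹ = (x * (a : G) * x⁻¹) * (x * (b : G) * x⁻¹)
        group }
  have h1 : φ (∏ c, f c) = ∏ c, φ (f c) := map_prod φ f Finset.univ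
  have h2 : ∀ c, φ (f c) = (⟨δ x, hδA x hx⟩ : ↥A)⁻¹ * f ((⟨x, hx⟩ : ↥E) • c) := by
    intro c
    induction c using Quotient.inductionOn' with
    | h y =>
      apply Subtype.ext
      show x * δ (y : G) * x⁻¹ = (δ x)⁻¹ * δ (x * (y : G))
      rw [hδmul x hx y y.2]; group
  have h3 : ∏ c, f ((⟨x, hx⟩ : ↥E) • c) = ∏ c, f c :=
    Fintype.prod_equiv (MulAction.toPerm (⟨x, hx⟩ : ↥E)) _ _ (fun c => rfl)
  have h4 : φ (∏ c, f c) =
      ((⟨δ x, hδA x hx⟩ : ↥A)⁻¹) ^ Fintype.card (↥E ⧸ T.subgroupOf E) * ∏ c, f c := by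
    rw [h1]; simp_rw [h2]
    rw [Finset.prod_mul_distrib, Finset.prod_const, Finset.card_univ, h3]
  have hidx : Fintype.card (↥E ⧸ T.subgroupOf E) = (T.subgroupOf E).index := by
    rw [Subgroup.index, Nat.card_eq_fintype_card]
  have h6 : (⟨δ x, hδA x hx⟩ : ↥A) ^ Fintype.card (↥E ⧸ T.subgroupOf E) =
      (∏ c, f c) * (φ (∏ c, f c))⁻¹ := by
    rw [h4, mul_inv_rev, mul_inv_cancel_left, inv_pow, inv_inv]
  have h7 := congrArg Subtype.val h6
  rw [← hidx]
  have h8 : δ x ^ Fintype.card (↥E ⧸ T.subgroupOf E) =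
      ((∏ c, f c : ↥A) : G) * (x * ((∏ c, f c : ↥A) : G) * x⁻¹)⁻¹ := by
    rw [Subgroup.coe_pow, Subgroup.coe_mul, Subgroup.coe_inv] at h7
    exact h7
  rw [h8]; group

/-- The relative trace map `A → A`, `w ↦ ∏_{c ∈ D/T} ᶜw`, for an abelian subgroup `A` normalized by
`D ≥ T` (defined through a choice of coset representatives; independent of it on `C_A(T)`). -/
theorem exists_trace [Finite G] (A D T : Subgroup G)
    (hAc : ∀ a ∈ A, ∀ b ∈ A, a * b = b * a) (hDA : D ≤ Subgroup.normalizer (A : Set G)) :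
    ∃ τ : ↥A →* ↥A,
      (∀ w : ↥A, (w : G) ∈ Subgroup.centralizer (T : Set G) →
        ((τ w : ↥A) : G) ∈ Subgroup.centralizer (D : Set G)) ∧
      (∀ w : ↥A, (w : G) ∈ Subgroup.centralizer (D : Set G) →
        τ w = w ^ (T.subgroupOf D).index) ∧
      (∀ t : G, t ∈ Subgroup.normalizer (D : Set G) → t ∈ Subgroup.normalizer (T : Set G) →
        ∀ (ht : t ∈ Subgroup.normalizer (A : Set G)) (w : ↥A),
          (w : G) ∈ Subgroup.centralizer (T : Set G) →
          ((τ ⟨t * w * t⁻¹, (ht w).mp w.2⟩ : ↥A) : G) = t * ((τ w : ↥A) : G) * t⁻¹) := by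
  classical
  letI : CommGroup ↥A :=
    { (inferInstance : Group ↥A) with
      mul_comm := fun a b => Subtype.ext (hAc a a.2 b b.2) }
  letI : Fintype (↥D ⧸ T.subgroupOf D) := Fintype.ofFinite _
  let rep : ↥D ⧸ T.subgroupOf D → ↥D := fun c => Quotient.out c
  have hrep : ∀ c, (QuotientGroup.mk (rep c) : ↥D ⧸ T.subgroupOf D) = c :=
    fun c => QuotientGroup.out_eq' c
  let cj : ↥D → (↥A →* ↥A) := fun x => (A.normalizerMonoidHom ⟨(x : G), hDA x.2⟩).toMonoidHom
  have hcj : ∀ (x : ↥D) (w : ↥A), ((cj x w : ↥A) : G) = (x : G) * (w : G) * (x : G)⁻¹ :=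
    fun x w => rfl
  obtain ⟨τ, hτ⟩ : ∃ τ : ↥A →* ↥A, τ = ∏ c, cj (rep c) := ⟨_, rfl⟩
  have hτapp : ∀ w : ↥A, τ w = ∏ c, cj (rep c) w := by
    intro w
    rw [hτ, MonoidHom.finsetProd_apply]
  have hcos : ∀ w : ↥A, (w : G) ∈ Subgroup.centralizer (T : Set G) → ∀ x y : ↥D,
      (QuotientGroup.mk x : ↥D ⧸ T.subgroupOf D) = QuotientGroup.mk y → cj x w = cj y w := by
    intro w hw x y hxy
    have h1 : x⁻¹ * y ∈ T.subgroupOf D := QuotientGroup.eq.mp hxy
    have h2 : ((x⁻¹ * y : ↥D) : G) ∈ T := Subgroup.mem_subgroupOf.mp h1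
    have h3 := (Subgroup.mem_centralizer_iff.mp hw) _ h2
    apply Subtype.ext
    rw [hcj, hcj]
    have h4 : (y : G) = (x : G) * ((x⁻¹ * y : ↥D) : G) := by push_cast; group
    rw [h4, mul_assoc (x : G) _ (w : G), h3]; group
  refine ⟨τ, ?_, ?_, ?_⟩
  · intro w hw
    refine Subgroup.mem_centralizer_iff.mpr ?_
    intro x hx
    have h1 : cj ⟨x, hx⟩ (τ w) = τ w := by
      rw [hτapp, map_prod]
      have h2 : ∀ c, cj ⟨x, hx⟩ (cj (rep c) w) = cj (rep ((⟨x, hx⟩ : ↥D) • c)) w := by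
        intro c
        have h3 : cj ⟨x, hx⟩ (cj (rep c) w) = cj (⟨x, hx⟩ * rep c) w := by
          apply Subtype.ext
          rw [hcj, hcj, hcj]
          push_cast
          group
        rw [h3]
        apply hcos w hw
        rw [hrep]
        conv_rhs => rw [← hrep c]
        rfl
      simp_rw [h2]
      exact Fintype.prod_equiv (MulAction.toPerm (⟨x, hx⟩ : ↥D)) _ _ (fun c => rfl)
    have h6 : x * ((τ w : ↥A) : G) * x⁻¹ = ((τ w : ↥A) : G) := congrArg Subtype.val h1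
    calc x * ((τ w : ↥A) : G) = x * ((τ w : ↥A) : G) * x⁻¹ * x := by group
      _ = ((τ w : ↥A) : G) * x := by rw [h6]
  · intro w hw
    rw [hτapp]
    have h1 : ∀ c, cj (rep c) w = w := by
      intro c
      apply Subtype.ext
      rw [hcj]
      have h2 := (Subgroup.mem_centralizer_iff.mp hw) _ (rep c).2
      rw [h2, mul_inv_cancel_right]
    simp_rw [h1]
    rw [Finset.prod_const, Finset.card_univ, Subgroup.index, Nat.card_eq_fintype_card]
  · intro t htD htT htA w hw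
    have hw' : t * (w : G) * t⁻¹ ∈ Subgroup.centralizer (T : Set G) := conj_mem_centralizer htT hw
    let conjD : ↥D → ↥D := fun x => ⟨t * (x : G) * t⁻¹, (htD x).mp x.2⟩
    have hconj : ∀ x y : ↥D, (QuotientGroup.mk (conjD x) : ↥D ⧸ T.subgroupOf D) =
        QuotientGroup.mk (conjD y) ↔ (QuotientGroup.mk x : ↥D ⧸ T.subgroupOf D) =
        QuotientGroup.mk y := by
      intro x y
      rw [QuotientGroup.eq, QuotientGroup.eq, Subgroup.mem_subgroupOf, Subgroup.mem_subgroupOf]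
      have e : (((conjD x)⁻¹ * conjD y : ↥D) : G) = t * ((x⁻¹ * y : ↥D) : G) * t⁻¹ := by
        show (t * (x : G) * t⁻¹)⁻¹ * (t * (y : G) * t⁻¹) = t * ((x : G)⁻¹ * (y : G)) * t⁻¹
        group
      rw [e]
      exact (htT _).symm
    let σ : ↥D ⧸ T.subgroupOf D → ↥D ⧸ T.subgroupOf D := fun c => QuotientGroup.mk (conjD (rep c))
    have hσinj : Function.Injective σ := by
      intro c c' h
      have h1 := (hconj (rep c) (rep c')).mp h
      rw [hrep, hrep] at h1
      exact h1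
    have hσ : Function.Bijective σ := Finite.injective_iff_bijective.mp hσinj
    have h1 : (A.normalizerMonoidHom ⟨t, htA⟩).toMonoidHom (τ w) =
        τ ⟨t * w * t⁻¹, (htA w).mp w.2⟩ := by
      rw [hτapp, hτapp, map_prod]
      have h2 : ∀ c, (A.normalizerMonoidHom ⟨t, htA⟩).toMonoidHom (cj (rep c) w) =
          cj (rep (σ c)) ⟨t * w * t⁻¹, (htA w).mp w.2⟩ := by
        intro c
        have h3 : (A.normalizerMonoidHom ⟨t, htA⟩).toMonoidHom (cj (rep c) w) =
            cj (conjD (rep c)) ⟨t * w * t⁻¹, (htA w).mp w.2⟩ := by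
          apply Subtype.ext
          rw [hcj]
          show t * ((rep c : G) * (w : G) * (rep c : G)⁻¹) * t⁻¹ =
            (t * (rep c : G) * t⁻¹) * (t * (w : G) * t⁻¹) * (t * (rep c : G) * t⁻¹)⁻¹
          group
        rw [h3]
        apply hcos _ hw'
        exact (hrep (σ c)).symm
      simp_rw [h2]
      exact Fintype.prod_equiv (Equiv.ofBijective σ hσ) _ _ (fun c => rfl)
    exact (congrArg Subtype.val h1).symm

/-- A `p`-group normalizing a nontrivial `p`-subgroup centralizes a nontrivial element of it. -/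
theorem exists_fixed_ne_one [Finite G] {p : ℕ} [Fact p.Prime] {T K : Subgroup G}
    (hT : IsPGroup p T) (hK : IsPGroup p K) (hTK : T ≤ Subgroup.normalizer (K : Set G))
    (hne : K ≠ ⊥) : ∃ k ∈ K, k ≠ 1 ∧ k ∈ Subgroup.centralizer (T : Set G) := by
  have hp : p.Prime := Fact.out
  let _inst : MulAction ↥T ↥K :=
    { smul := fun t k => ⟨(t : G) * (k : G) * (t : G)⁻¹, (hTK t.2 k).mp k.2⟩
      one_smul := by
        intro k
        apply Subtype.ext
        show ((1 : ↥T) : G) * (k : G) * ((1 : ↥T) : G)⁻¹ = (k : G)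
        simp
      mul_smul := by
        intro a b k
        apply Subtype.ext
        show ((a * b : ↥T) : G) * (k : G) * ((a * b : ↥T) : G)⁻¹ =
          (a : G) * ((b : G) * (k : G) * (b : G)⁻¹) * (a : G)⁻¹
        push_cast
        group }
  have hcard : p ∣ Nat.card ↥K := by
    obtain ⟨n, hn⟩ := hK.exists_card_eq
    rw [hn]
    have hn0 : n ≠ 0 := by
      rintro rfl
      rw [pow_zero] at hn
      exact hne ((Subgroup.card_eq_one).mp hn)
    exact dvd_pow_self p hn0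
  have h1 : (1 : ↥K) ∈ MulAction.fixedPoints ↥T ↥K := by
    intro t
    apply Subtype.ext
    show (t : G) * ((1 : ↥K) : G) * (t : G)⁻¹ = ((1 : ↥K) : G)
    simp
  obtain ⟨k, hk, hk1⟩ := hT.exists_fixed_point_of_prime_dvd_card_of_fixed_point ↥K hcard h1
  refine ⟨k, k.2, ?_, ?_⟩
  · intro h
    apply hk1
    exact (Subtype.ext h).symm
  · refine Subgroup.mem_centralizer_iff.mpr ?_
    intro t ht
    have h2 : (⟨t, ht⟩ : ↥T) • k = k := hk ⟨t, ht⟩
    have h3 : t * (k : G) * t⁻¹ = (k : G) := congrArg Subtype.val h2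
    calc t * (k : G) = t * (k : G) * t⁻¹ * t := by group
      _ = (k : G) * t := by rw [h3]

/-- If `C_K(P ∩ K) ≤ P` for a normal `p`-subgroup `P` and `L ⊴ K`, then `C_L(P ∩ L)` is a
`p`-group. -/
theorem isPGroup_inf_centralizer [Finite G] {p : ℕ} [Fact p.Prime] {P K L : Subgroup G}
    [hPn : P.Normal] (hP : IsPGroup p P) (hLK : L ≤ K)
    (hKL : K ≤ Subgroup.normalizer (L : Set G))
    (hK : K ⊓ Subgroup.centralizer ((P ⊓ K : Subgroup G) : Set G) ≤ P) :
    IsPGroup p ↥(L ⊓ Subgroup.centralizer ((P ⊓ L : Subgroup G) : Set G)) := by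
  apply isPGroup_of_coprime_elts_trivial
  intro x hx hxp
  have hxc := Subgroup.mem_centralizer_iff.mp hx.2
  have hxP : x ∈ P := by
    apply hK
    refine ⟨hLK hx.1, ?_⟩
    refine Subgroup.mem_centralizer_iff.mpr ?_
    intro r hr
    have hcP : r⁻¹ * x * r * x⁻¹ ∈ P := by
      have h1 : x * r * x⁻¹ ∈ P := hPn.conj_mem r hr.1 x
      have e : r⁻¹ * x * r * x⁻¹ = r⁻¹ * (x * r * x⁻¹) := by group
      rw [e]
      exact P.mul_mem (P.inv_mem hr.1) h1
    have hcL : r⁻¹ * x * r * x⁻¹ ∈ L := by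
      have h1 : r⁻¹ * x * r⁻¹⁻¹ ∈ L :=
        conj_mem_of_mem_normalizer (hKL (K.inv_mem hr.2)) hx.1
      have e : r⁻¹ * x * r * x⁻¹ = (r⁻¹ * x * r⁻¹⁻¹) * x⁻¹ := by group
      rw [e]
      exact L.mul_mem h1 (L.inv_mem hx.1)
    have hcomm : x * (r⁻¹ * x * r * x⁻¹) = (r⁻¹ * x * r * x⁻¹) * x :=
      (hxc _ ⟨hcP, hcL⟩).symm
    obtain ⟨k, hk⟩ := hP ⟨_, hcP⟩
    have hk' : (r⁻¹ * x * r * x⁻¹) ^ p ^ k = 1 := congrArg Subtype.val hk
    have hconj : x * r * x⁻¹ = r * (r⁻¹ * x * r * x⁻¹) := by group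
    have h1 := eq_one_of_conj_eq_mul hxp hconj hcomm hk'
    rw [h1, mul_one] at hconj
    calc r * x = (x * r * x⁻¹) * x := by rw [hconj]
      _ = x * r := by group
  obtain ⟨k, hk⟩ := hP ⟨x, hxP⟩
  have hk' : x ^ p ^ k = 1 := congrArg Subtype.val hk
  exact eq_one_of_coprime_of_pow hxp hk'

/-- If `L ⊴ K` and `A` has index prime to `p` in `K`, then `A ∩ L` has index prime to `p` in
`L`. -/
theorem relIndex_coprime_of_normal [Finite G] {p : ℕ} {A K L : Subgroup G} (hLK : L ≤ K)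
    (hKL : K ≤ Subgroup.normalizer (L : Set G)) (hA : (A.relIndex K).Coprime p) :
    ((A ⊓ L).relIndex L).Coprime p := by
  haveI hn : (L.subgroupOf K).Normal := (Subgroup.normal_subgroupOf_iff_le_normalizer hLK).mpr hKL
  have h1 : (A.subgroupOf K ⊓ L.subgroupOf K).relIndex (A.subgroupOf K) *
      (A.subgroupOf K).relIndex (A.subgroupOf K ⊔ L.subgroupOf K) =
      (A.subgroupOf K ⊓ L.subgroupOf K).relIndex (A.subgroupOf K ⊔ L.subgroupOf K) :=
    Subgroup.relIndex_mul_relIndex _ _ _ inf_le_left le_sup_left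
  have h2 : (A.subgroupOf K ⊓ L.subgroupOf K).relIndex (L.subgroupOf K) *
      (L.subgroupOf K).relIndex (A.subgroupOf K ⊔ L.subgroupOf K) =
      (A.subgroupOf K ⊓ L.subgroupOf K).relIndex (A.subgroupOf K ⊔ L.subgroupOf K) :=
    Subgroup.relIndex_mul_relIndex _ _ _ inf_le_right le_sup_right
  have h3 : (L.subgroupOf K).relIndex (A.subgroupOf K ⊔ L.subgroupOf K) =
      (A.subgroupOf K ⊓ L.subgroupOf K).relIndex (A.subgroupOf K) := by
    rw [Subgroup.relIndex_sup_right, Subgroup.inf_relIndex_left]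
  have h4 : (A.subgroupOf K ⊓ L.subgroupOf K).relIndex (L.subgroupOf K) =
      (A.subgroupOf K).relIndex (A.subgroupOf K ⊔ L.subgroupOf K) := by
    rw [h3, ← h1, mul_comm] at h2
    have hne : (A.subgroupOf K ⊓ L.subgroupOf K).relIndex (A.subgroupOf K) ≠ 0 := by
      rw [Subgroup.relIndex]
      exact Subgroup.index_ne_zero_of_finite
    exact Nat.eq_of_mul_eq_mul_left (Nat.pos_of_ne_zero hne) h2
  have h5 : (A.subgroupOf K ⊓ L.subgroupOf K).relIndex (L.subgroupOf K) ∣ (A.subgroupOf K).index := by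
    rw [h4]
    exact Subgroup.relIndex_dvd_index_of_le le_sup_left
  have h6 : (A.subgroupOf K ⊓ L.subgroupOf K).relIndex (L.subgroupOf K) = (A ⊓ L).relIndex L := by
    have e : A.subgroupOf K ⊓ L.subgroupOf K = (A ⊓ L).subgroupOf K := by
      ext x
      simp [Subgroup.mem_subgroupOf]
    rw [e, Subgroup.relIndex_subgroupOf hLK]
  rw [h6] at h5
  exact Nat.Coprime.coprime_dvd_left h5 hA

theorem mem_omegaOne_center {p : ℕ} {X : Subgroup G} {x : G} (hx : x ∈ X)
    (hxc : x ∈ Subgroup.centralizer (X : Set G)) (hxp : x ^ p = 1) :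
    x ∈ Cfsg.omegaOne p (X ⊓ Subgroup.centralizer (X : Set G)) :=
  Subgroup.subset_closure ⟨⟨hx, hxc⟩, hxp⟩

/-- Kieler's lemma for a normal subgroup `L` of `K`, in ambient form: `T` plays the role of a Sylow
`p`-subgroup of `K` and `P` that of `O_p(K)`. -/
theorem kieler_normal [Finite G] {p : ℕ} [Fact p.Prime] {K T P L : Subgroup G}
    (hT : IsPGroup p T) (hTK : T ≤ K) (hPT : P ≤ T)
    (hKP : K ≤ Subgroup.normalizer (P : Set G))
    (hKc : K ⊓ Subgroup.centralizer (P : Set G) ≤ P)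
    (hLK : L ≤ K) (hKL : K ≤ Subgroup.normalizer (L : Set G))
    (hLc : L ⊓ Subgroup.centralizer ((P ⊓ L : Subgroup G) : Set G) ≤ P)
    (hcop : ((T ⊓ L).relIndex L).Coprime p) :
    L ⊓ Subgroup.centralizer ((Cfsg.omegaOne p (T ⊓ Subgroup.centralizer (T : Set G))) : Set G) =
      L ⊓ Subgroup.centralizer ((Cfsg.omegaOne p ((T ⊓ L) ⊓
        Subgroup.centralizer (((T ⊓ L : Subgroup G)) : Set G))) : Set G) := by
  have hpp : p.Prime := Fact.out
  obtain ⟨TL, hTLdef⟩ : ∃ TL : Subgroup G, TL = T ⊓ L := ⟨_, rfl⟩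
  obtain ⟨PL, hPLdef⟩ : ∃ PL : Subgroup G, PL = P ⊓ L := ⟨_, rfl⟩
  rw [← hTLdef]
  rw [← hTLdef] at hcop
  rw [← hPLdef] at hLc
  obtain ⟨A, hAdef⟩ : ∃ A : Subgroup G,
      A = Cfsg.omegaOne p (PL ⊓ Subgroup.centralizer (PL : Set G)) := ⟨_, rfl⟩
  obtain ⟨Z, hZdef⟩ : ∃ Z : Subgroup G,
      Z = Cfsg.omegaOne p (T ⊓ Subgroup.centralizer (T : Set G)) := ⟨_, rfl⟩
  obtain ⟨ZL, hZLdef⟩ : ∃ ZL : Subgroup G,
      ZL = Cfsg.omegaOne p (TL ⊓ Subgroup.centralizer (TL : Set G)) := ⟨_, rfl⟩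
  rw [← hZdef, ← hZLdef]
  have hTLT : TL ≤ T := by rw [hTLdef]; exact inf_le_left
  have hTLL : TL ≤ L := by rw [hTLdef]; exact inf_le_right
  have hPLTL : PL ≤ TL := by rw [hPLdef, hTLdef]; exact inf_le_inf_right _ hPT
  have hPLP : PL ≤ P := by rw [hPLdef]; exact inf_le_left
  have hKPL : K ≤ Subgroup.normalizer (PL : Set G) := by
    rw [hPLdef]
    apply le_normalizer_of_conj_mem
    intro k hk x hx
    exact ⟨conj_mem_of_mem_normalizer (hKP hk) hx.1, conj_mem_of_mem_normalizer (hKL hk) hx.2⟩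
  have hKA : K ≤ Subgroup.normalizer (A : Set G) := by
    rw [hAdef]
    exact le_normalizer_of_conj_mem (fun k hk w hw => conj_mem_omegaOne_center (hKPL hk) hw)
  have hAspec : ∀ a ∈ A, a ∈ PL ∧ a ∈ Subgroup.centralizer (PL : Set G) ∧ a ^ p = 1 := by
    intro a ha
    rw [hAdef] at ha
    exact omegaOne_center_spec PL ha
  have hATL : A ≤ TL := fun a ha => hPLTL (hAspec a ha).1
  have hAc : ∀ a ∈ A, ∀ b ∈ A, a * b = b * a := by
    intro a ha b hb
    exact ((Subgroup.mem_centralizer_iff.mp (hAspec a ha).2.1) b (hAspec b hb).1).symm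
  have hZspec : ∀ z ∈ Z, z ∈ T ∧ z ∈ Subgroup.centralizer (T : Set G) ∧ z ^ p = 1 := by
    intro z hz
    rw [hZdef] at hz
    exact omegaOne_center_spec T hz
  have hZLspec : ∀ w ∈ ZL, w ∈ TL ∧ w ∈ Subgroup.centralizer (TL : Set G) ∧ w ^ p = 1 := by
    intro w hw
    rw [hZLdef] at hw
    exact omegaOne_center_spec TL hw
  have hZLA : ZL ≤ A := by
    intro w hw
    obtain ⟨h1, h2, h3⟩ := hZLspec w hw
    have h4 : w ∈ Subgroup.centralizer (PL : Set G) := Subgroup.centralizer_le hPLTL h2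
    have h5 : w ∈ PL := by
      rw [hPLdef]
      exact ⟨hLc ⟨hTLL h1, h4⟩, hTLL h1⟩
    rw [hAdef]
    exact mem_omegaOne_center h5 h4 h3
  have hAZL : ∀ a ∈ A, a ∈ Subgroup.centralizer (TL : Set G) → a ∈ ZL := by
    intro a ha hac
    rw [hZLdef]
    exact mem_omegaOne_center (hATL ha) hac (hAspec a ha).2.2
  have hidx : ∀ E : Subgroup G, TL ≤ E → E ≤ L → ((TL.subgroupOf E).index).Coprime p := by
    intro E h1 h2
    have h3 := Subgroup.relIndex_mul_relIndex TL E L h1 h2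
    exact Nat.Coprime.coprime_dvd_left (Dvd.intro _ h3) hcop
  have hTnT : T ≤ Subgroup.normalizer (T : Set G) := Subgroup.le_normalizer
  have hTnTL : T ≤ Subgroup.normalizer (TL : Set G) := by
    rw [hTLdef]
    apply le_normalizer_of_conj_mem
    intro t ht x hx
    exact ⟨T.mul_mem (T.mul_mem ht hx.1) (T.inv_mem ht),
      conj_mem_of_mem_normalizer (hKL (hTK ht)) hx.2⟩
  apply le_antisymm
  · -- `D = C_L(Z)` centralizes `Z_L`
    apply le_inf inf_le_left
    obtain ⟨D, hDdef⟩ : ∃ D : Subgroup G, D = L ⊓ Subgroup.centralizer (Z : Set G) := ⟨_, rfl⟩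
    rw [← hDdef]
    have hDL : D ≤ L := by rw [hDdef]; exact inf_le_left
    have hTD : TL ≤ D := by
      rw [hDdef]
      apply le_inf hTLL
      intro t ht
      refine Subgroup.mem_centralizer_iff.mpr ?_
      intro z hz
      exact ((Subgroup.mem_centralizer_iff.mp (hZspec z hz).2.1) t (hTLT ht)).symm
    have hDA : D ≤ Subgroup.normalizer (A : Set G) := (hDL.trans hLK).trans hKA
    obtain ⟨τ, hτ1, hτ2, hτ3⟩ := exists_trace A D TL hAc hDA
    have hn := hidx D hTD hDL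
    have hTnD : T ≤ Subgroup.normalizer (D : Set G) := by
      rw [hDdef]
      apply le_normalizer_of_conj_mem
      intro t ht x hx
      refine ⟨conj_mem_of_mem_normalizer (hKL (hTK ht)) hx.1, ?_⟩
      apply conj_mem_centralizer _ hx.2
      rw [hZdef]
      exact le_normalizer_of_conj_mem
        (fun g hg w hw => conj_mem_omegaOne_center (hTnT hg) hw) ht
    -- the kernel of the trace on `C_A(T_L)` is trivial
    have hker : ∀ w : ↥A, τ w = 1 → (w : G) ∈ Subgroup.centralizer (TL : Set G) → w = 1 := by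
      obtain ⟨𝕂, h𝕂⟩ : ∃ 𝕂 : Subgroup ↥A,
          𝕂 = τ.ker ⊓ (Subgroup.centralizer (TL : Set G)).subgroupOf A := ⟨_, rfl⟩
      have hmem : ∀ w : ↥A, w ∈ 𝕂 ↔ τ w = 1 ∧ (w : G) ∈ Subgroup.centralizer (TL : Set G) := by
        intro w
        rw [h𝕂, Subgroup.mem_inf, MonoidHom.mem_ker, Subgroup.mem_subgroupOf]
      have hK₀p : IsPGroup p ↥(𝕂.map A.subtype) := by
        apply hT.to_le
        rintro _ ⟨w, -, rfl⟩
        exact hTLT (hATL w.2)
      have hTn : T ≤ Subgroup.normalizer ((𝕂.map A.subtype : Subgroup G) : Set G) := by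
        apply le_normalizer_of_conj_mem
        rintro t ht _ ⟨w, hw, rfl⟩
        have htA : t ∈ Subgroup.normalizer (A : Set G) := hKA (hTK ht)
        obtain ⟨hw1, hw2⟩ := (hmem w).mp hw
        refine ⟨⟨t * (w : G) * t⁻¹, (htA w).mp w.2⟩, (hmem _).mpr ?_, rfl⟩
        refine ⟨?_, conj_mem_centralizer (hTnTL ht) hw2⟩
        apply Subtype.ext
        rw [hτ3 t (hTnD ht) (hTnTL ht) htA w hw2, hw1]
        simp
      have hbot : 𝕂.map A.subtype = ⊥ := by
        by_contra hne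
        obtain ⟨k, hk, hk1, hkT⟩ := exists_fixed_ne_one hT hK₀p hTn hne
        obtain ⟨w, hw, rfl⟩ := hk
        obtain ⟨hw1, hw2⟩ := (hmem w).mp hw
        have hwp : (w : G) ^ p = 1 := (hAspec _ w.2).2.2
        have hwZ : (w : G) ∈ Z := by
          rw [hZdef]
          exact mem_omegaOne_center (hTLT (hATL w.2)) hkT hwp
        have hwD : (w : G) ∈ Subgroup.centralizer (D : Set G) := by
          refine Subgroup.mem_centralizer_iff.mpr ?_
          intro x hx
          rw [hDdef] at hx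
          exact ((Subgroup.mem_centralizer_iff.mp hx.2) _ hwZ).symm
        have h3 := hτ2 w hwD
        rw [hw1] at h3
        have h4 : (w : G) ^ (TL.subgroupOf D).index = 1 := by
          have := congrArg Subtype.val h3
          rw [Subgroup.coe_pow] at this
          exact this.symm
        have h5 : (orderOf (w : G)).Coprime p :=
          Nat.Coprime.coprime_dvd_left (orderOf_dvd_of_pow_eq_one h4) hn
        have h6 : (w : G) ^ p ^ 1 = 1 := by rw [pow_one]; exact hwp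
        exact hk1 (eq_one_of_coprime_of_pow h5 h6)
      intro w hw1 hw2
      have h1 : (w : G) ∈ 𝕂.map A.subtype := ⟨w, (hmem w).mpr ⟨hw1, hw2⟩, rfl⟩
      rw [hbot, Subgroup.mem_bot] at h1
      exact Subtype.ext h1
    intro x hx
    refine Subgroup.mem_centralizer_iff.mpr ?_
    intro w hw
    obtain ⟨hw1, hw2, hw3⟩ := hZLspec w hw
    have hwA : w ∈ A := hZLA hw
    have hu1 := hτ1 ⟨w, hwA⟩ hw2
    have hu2 := hτ2 (τ ⟨w, hwA⟩) hu1
    have huT : ((τ ⟨w, hwA⟩ : ↥A) : G) ∈ Subgroup.centralizer (TL : Set G) :=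
      Subgroup.centralizer_le hTD hu1
    have hv1 : τ ((⟨w, hwA⟩ : ↥A) ^ (TL.subgroupOf D).index * (τ ⟨w, hwA⟩)⁻¹) = 1 := by
      rw [map_mul, map_pow, map_inv, hu2, mul_inv_cancel]
    have hv2 : (((⟨w, hwA⟩ : ↥A) ^ (TL.subgroupOf D).index * (τ ⟨w, hwA⟩)⁻¹ : ↥A) : G) ∈
        Subgroup.centralizer (TL : Set G) := by
      rw [Subgroup.coe_mul, Subgroup.coe_pow, Subgroup.coe_inv]
      exact Subgroup.mul_mem _ (Subgroup.pow_mem _ hw2 _) (Subgroup.inv_mem _ huT)
    have hv3 := hker _ hv1 hv2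
    have hv4 : (⟨w, hwA⟩ : ↥A) ^ (TL.subgroupOf D).index = τ ⟨w, hwA⟩ := by
      rw [mul_inv_eq_one] at hv3
      exact hv3
    have hv5 : w ^ (TL.subgroupOf D).index ∈ Subgroup.centralizer (D : Set G) := by
      have := congrArg Subtype.val hv4
      rw [Subgroup.coe_pow] at this
      rw [show w ^ (TL.subgroupOf D).index = ((τ ⟨w, hwA⟩ : ↥A) : G) from this]
      exact hu1
    have hcop2 : ((TL.subgroupOf D).index).Coprime (orderOf w) :=
      Nat.Coprime.coprime_dvd_right (orderOf_dvd_of_pow_eq_one hw3) hn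
    obtain ⟨m, hm⟩ := exists_pow_eq_self_of_coprime hcop2
    have hwD : w ∈ Subgroup.centralizer (D : Set G) := by
      rw [← hm]
      exact Subgroup.pow_mem _ hv5 m
    exact ((Subgroup.mem_centralizer_iff.mp hwD) x hx).symm
  · -- `E = C_L(Z_L)` centralizes `Z`
    apply le_inf inf_le_left
    obtain ⟨E, hEdef⟩ : ∃ E : Subgroup G, E = L ⊓ Subgroup.centralizer (ZL : Set G) := ⟨_, rfl⟩
    rw [← hEdef]
    have hEL : E ≤ L := by rw [hEdef]; exact inf_le_left
    have hTE : TL ≤ E := by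
      rw [hEdef]
      apply le_inf hTLL
      intro t ht
      refine Subgroup.mem_centralizer_iff.mpr ?_
      intro w hw
      exact ((Subgroup.mem_centralizer_iff.mp (hZLspec w hw).2.1) t ht).symm
    have hEA : E ≤ Subgroup.normalizer (A : Set G) := (hEL.trans hLK).trans hKA
    have hn := hidx E hTE hEL
    intro x hx
    refine Subgroup.mem_centralizer_iff.mpr ?_
    intro z hz
    obtain ⟨hz1, hz2, hz3⟩ := hZspec z hz
    have hzP : z ∈ P := hKc ⟨hTK hz1, Subgroup.centralizer_le hPT hz2⟩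
    have hzcP : z ∈ Subgroup.centralizer (P : Set G) := Subgroup.centralizer_le hPT hz2
    have hzAK : z ∈ Cfsg.omegaOne p (P ⊓ Subgroup.centralizer (P : Set G)) :=
      mem_omegaOne_center hzP hzcP hz3
    have hδA : ∀ y ∈ E, z * y * z⁻¹ * y⁻¹ ∈ A := by
      intro y hy
      have hyK : y ∈ K := hLK (hEL hy)
      have h1 : y * z⁻¹ * y⁻¹ ∈ Cfsg.omegaOne p (P ⊓ Subgroup.centralizer (P : Set G)) :=
        conj_mem_omegaOne_center (hKP hyK) (Subgroup.inv_mem _ hzAK)
      have h2 : z * y * z⁻¹ * y⁻¹ ∈ Cfsg.omegaOne p (P ⊓ Subgroup.centralizer (P : Set G)) := by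
        have e : z * y * z⁻¹ * y⁻¹ = z * (y * z⁻¹ * y⁻¹) := by group
        rw [e]
        exact Subgroup.mul_mem _ hzAK h1
      obtain ⟨h3, h4, h5⟩ := omegaOne_center_spec P h2
      have h6 : z * y * z⁻¹ * y⁻¹ ∈ L :=
        L.mul_mem (conj_mem_of_mem_normalizer (hKL (hTK hz1)) (hEL hy)) (L.inv_mem (hEL hy))
      rw [hAdef]
      apply mem_omegaOne_center _ (Subgroup.centralizer_le hPLP h4) h5
      rw [hPLdef]
      exact ⟨h3, h6⟩
    obtain ⟨a, haA, ha⟩ := crossed_hom_pow A E TL hAc hEA hTE (fun y => z * y * z⁻¹ * y⁻¹) hδA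
      (fun x _ y _ => by group)
      (fun t ht => by
        have h1 := (Subgroup.mem_centralizer_iff.mp hz2) t (hTLT ht)
        rw [← h1]; group)
    have haT : a ∈ Subgroup.centralizer (TL : Set G) := by
      refine Subgroup.mem_centralizer_iff.mpr ?_
      intro t ht
      have h1 := ha t (hTE ht)
      have h2 : z * t * z⁻¹ * t⁻¹ = 1 := by
        have h3 := (Subgroup.mem_centralizer_iff.mp hz2) t (hTLT ht)
        rw [← h3]; group
      simp only [h2, one_pow] at h1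
      calc t * a = (a * (t * a⁻¹ * t⁻¹))⁻¹ * a * t := by group
        _ = a * t := by rw [← h1]; group
    have haZ : a ∈ ZL := hAZL a haA haT
    have hxa : a * x = x * a := by
      rw [hEdef] at hx
      exact (Subgroup.mem_centralizer_iff.mp hx.2) a haZ
    have h1 := ha x hx
    have h2 : a * (x * a⁻¹ * x⁻¹) = 1 := by
      calc a * (x * a⁻¹ * x⁻¹) = (a * x) * a⁻¹ * x⁻¹ := by group
        _ = (x * a) * a⁻¹ * x⁻¹ := by rw [hxa]
        _ = 1 := by group
    rw [h2] at h1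
    have h3 : (z * x * z⁻¹ * x⁻¹) ^ p = 1 := (hAspec _ (hδA x hx)).2.2
    have h5 : (orderOf (z * x * z⁻¹ * x⁻¹)).Coprime p :=
      Nat.Coprime.coprime_dvd_left (orderOf_dvd_of_pow_eq_one h1) hn
    have h6 : (z * x * z⁻¹ * x⁻¹) ^ p ^ 1 = 1 := by rw [pow_one]; exact h3
    have h7 := eq_one_of_coprime_of_pow h5 h6
    calc z * x = (z * x * z⁻¹ * x⁻¹) * x * z := by group
      _ = x * z := by rw [h7, one_mul]

/-- Kieler's lemma, with the facts carried along a subnormal chain. -/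
theorem kieler_aux [Finite G] {p : ℕ} [Fact p.Prime]
    (hH : Subgroup.centralizer (Cfsg.pCore p G : Set G) ≤ Cfsg.pCore p G) (T : Sylow p G)
    {L : Subgroup G} (hL : L.IsSubnormal) :
    L ⊓ Subgroup.centralizer ((Cfsg.pCore p G ⊓ L : Subgroup G) : Set G) ≤ Cfsg.pCore p G ∧
    (((T : Subgroup G) ⊓ L).relIndex L).Coprime p ∧
    L ⊓ Subgroup.centralizer ((Cfsg.omegaOne p ((T : Subgroup G) ⊓
        Subgroup.centralizer ((T : Subgroup G) : Set G))) : Set G) =
      L ⊓ Subgroup.centralizer ((Cfsg.omegaOne p (((T : Subgroup G) ⊓ L) ⊓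
        Subgroup.centralizer ((((T : Subgroup G) ⊓ L) : Subgroup G) : Set G))) : Set G) := by
  have hpp : p.Prime := Fact.out
  have hP : IsPGroup p (Cfsg.pCore p G) := pCore_isPGroup p G
  have hPT : Cfsg.pCore p G ≤ (T : Subgroup G) := hP.le_sylow_of_normal T
  induction hL with
  | top =>
    refine ⟨?_, ?_, ?_⟩
    · rw [inf_top_eq]
      exact inf_le_right.trans hH
    · rw [inf_top_eq, Subgroup.relIndex_top_right]
      exact ((Nat.Prime.coprime_iff_not_dvd hpp).mpr T.not_dvd_index).symm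
    · rw [inf_top_eq]
  | step L K hle hK hn ih =>
    obtain ⟨ih1, ih2, ih3⟩ := ih
    have hKL : K ≤ Subgroup.normalizer (L : Set G) :=
      (Subgroup.normal_subgroupOf_iff_le_normalizer hle).mp hn
    have hLsub : L.IsSubnormal := Subgroup.IsSubnormal.step L K hle hK hn
    have hnP : ∀ g : G, g ∈ Subgroup.normalizer ((Cfsg.pCore p G : Subgroup G) : Set G) := by
      intro g
      rw [Subgroup.normalizer_eq_top_iff.mpr (Cfsg.pCore_normal p G)]
      exact Subgroup.mem_top g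
    have h1p : IsPGroup p ↥(L ⊓ Subgroup.centralizer ((Cfsg.pCore p G ⊓ L : Subgroup G) : Set G)) :=
      isPGroup_inf_centralizer hP hle hKL ih1
    have hLPL : L ≤ Subgroup.normalizer ((Cfsg.pCore p G ⊓ L : Subgroup G) : Set G) := by
      apply le_normalizer_of_conj_mem
      intro k hk x hx
      exact ⟨conj_mem_of_mem_normalizer (hnP k) hx.1, L.mul_mem (L.mul_mem hk hx.2) (L.inv_mem hk)⟩
    have h1 : L ⊓ Subgroup.centralizer ((Cfsg.pCore p G ⊓ L : Subgroup G) : Set G) ≤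
        Cfsg.pCore p G := by
      apply le_pCore_of_normalized_of_subnormal hLsub _ inf_le_left _ h1p
      intro k hk a ha
      exact ⟨L.mul_mem (L.mul_mem hk ha.1) (L.inv_mem hk), conj_mem_centralizer (hLPL hk) ha.2⟩
    have e1 : (T : Subgroup G) ⊓ K ⊓ L = (T : Subgroup G) ⊓ L := by
      rw [inf_assoc, inf_eq_right.mpr hle]
    have e2 : Cfsg.pCore p G ⊓ K ⊓ L = Cfsg.pCore p G ⊓ L := by
      rw [inf_assoc, inf_eq_right.mpr hle]
    have h2 : (((T : Subgroup G) ⊓ L).relIndex L).Coprime p := by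
      have := relIndex_coprime_of_normal (A := (T : Subgroup G) ⊓ K) hle hKL ih2
      rwa [e1] at this
    refine ⟨h1, h2, ?_⟩
    have hKPK : K ≤ Subgroup.normalizer ((Cfsg.pCore p G ⊓ K : Subgroup G) : Set G) := by
      apply le_normalizer_of_conj_mem
      intro k hk x hx
      exact ⟨conj_mem_of_mem_normalizer (hnP k) hx.1, K.mul_mem (K.mul_mem hk hx.2) (K.inv_mem hk)⟩
    have h3 := kieler_normal (K := K) (T := (T : Subgroup G) ⊓ K) (P := Cfsg.pCore p G ⊓ K) (L := L)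
      (T.2.to_le inf_le_left) inf_le_right (inf_le_inf_right K hPT) hKPK (le_inf ih1 inf_le_left)
      hle hKL (by rw [e2]; exact le_inf h1 (inf_le_left.trans hle)) (by rw [e1]; exact h2)
    rw [e1] at h3
    calc L ⊓ Subgroup.centralizer ((Cfsg.omegaOne p ((T : Subgroup G) ⊓
          Subgroup.centralizer ((T : Subgroup G) : Set G))) : Set G)
        = L ⊓ (K ⊓ Subgroup.centralizer ((Cfsg.omegaOne p ((T : Subgroup G) ⊓
          Subgroup.centralizer ((T : Subgroup G) : Set G))) : Set G)) := by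
          rw [← inf_assoc, inf_eq_left.mpr hle]
      _ = L ⊓ (K ⊓ Subgroup.centralizer ((Cfsg.omegaOne p (((T : Subgroup G) ⊓ K) ⊓
          Subgroup.centralizer ((((T : Subgroup G) ⊓ K) : Subgroup G) : Set G))) : Set G)) := by
          rw [ih3]
      _ = L ⊓ Subgroup.centralizer ((Cfsg.omegaOne p (((T : Subgroup G) ⊓ K) ⊓
          Subgroup.centralizer ((((T : Subgroup G) ⊓ K) : Subgroup G) : Set G))) : Set G) := by
          rw [← inf_assoc, inf_eq_left.mpr hle]
      _ = _ := h3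

end Cfsg.Agent.H52
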