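import Mathlib
import Cfsg.Prelude.Def_Local
import Cfsg.Prelude.Def_LocalStructure
import Cfsg.Agent.H52.Basic
import Cfsg.Agent.H52.Subnormal
import Cfsg.Agent.H52.SubnormalClosure
import Cfsg.Agent.H52.V27Layer
import Cfsg.Agent.H52.V12Subnormal

/-!
# Wielandt: Sylow subgroups and joins of subnormal subgroups (helper52)

`S ∩ ⟨𝒳⟩ = ⟨S ∩ X : X ∈ 𝒳⟩` for a Sylow `p`-subgroup `S` and a family `𝒳` of subnormal subgroups
of a finite group.
-/

set_option autoImplicit false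

namespace Cfsg.Agent.H52

open Subgroup Pointwise
open scoped commutatorElement

universe u

variable {G : Type*} [Group G]

/-- A number dividing a power of `p` and a number prime to `p` is `1`. -/
theorem eq_one_of_dvd_pow_of_dvd_coprime {p d k m : ℕ} (h1 : d ∣ p ^ k) (h2 : d ∣ m)
    (hm : m.Coprime p) : d = 1 := by
  have h3 : d.Coprime (p ^ k) := Nat.Coprime.pow_right k (Nat.Coprime.coprime_dvd_left h2 hm)
  exact Nat.Coprime.eq_one_of_dvd h3 h1

/-- If `N` is normal and `S ∩ X` has index prime to `p` in `X` (`S` a `p`-group), then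
`S ∩ XN ≤ (S ∩ X)(S ∩ N)`. -/
theorem inf_sup_normal_le [Finite G] {p : ℕ} [Fact p.Prime] {S X N : Subgroup G} [hN : N.Normal]
    (hS : IsPGroup p S) (hX : ((S ⊓ X).relIndex X).Coprime p) :
    S ⊓ (X ⊔ N) ≤ (S ⊓ X) ⊔ (S ⊓ N) := by
  have hUV : (S ⊓ X) ⊔ N ≤ (S ⊓ (X ⊔ N)) ⊔ N :=
    sup_le_sup_right (le_inf inf_le_left (inf_le_right.trans le_sup_left)) N
  have hVXN : (S ⊓ (X ⊔ N)) ⊔ N ≤ X ⊔ N := sup_le inf_le_right le_sup_right
  -- `|V : U|` is a power of `p`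
  have h1 : ∃ k, N.relIndex ((S ⊓ (X ⊔ N)) ⊔ N) = p ^ k := by
    rw [Subgroup.relIndex_sup_right]
    exact (hS.to_le (inf_le_left : S ⊓ (X ⊔ N) ≤ S)).index _
  obtain ⟨k, hk⟩ := h1
  have h2 : ((S ⊓ X) ⊔ N).relIndex ((S ⊓ (X ⊔ N)) ⊔ N) ∣ p ^ k := by
    rw [← hk]
    exact Subgroup.relIndex_dvd_of_le_left _ le_sup_right
  -- `|V : U|` is prime to `p`
  have h3 : ((S ⊓ X) ⊔ N).relIndex (X ⊔ N) = ((S ⊓ X) ⊔ N).relIndex X := by
    have e1 : ((S ⊓ X) ⊔ N) = (((S ⊓ X) ⊔ N).map (QuotientGroup.mk' N)).comap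
        (QuotientGroup.mk' N) := by
      rw [Subgroup.comap_map_eq, QuotientGroup.ker_mk', sup_assoc, sup_idem]
    rw [e1, Subgroup.relIndex_comap, Subgroup.relIndex_comap, Subgroup.map_sup X N]
    have e2 : N.map (QuotientGroup.mk' N) = ⊥ := by
      rw [eq_bot_iff]
      rintro _ ⟨n, hn, rfl⟩
      rw [Subgroup.mem_bot]
      exact (QuotientGroup.eq_one_iff n).mpr hn
    rw [e2, sup_bot_eq]
  have h4 : ((S ⊓ X) ⊔ N).relIndex ((S ⊓ (X ⊔ N)) ⊔ N) ∣ (S ⊓ X).relIndex X := by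
    have h5 := Subgroup.relIndex_mul_relIndex _ _ _ hUV hVXN
    have h6 : ((S ⊓ X) ⊔ N).relIndex ((S ⊓ (X ⊔ N)) ⊔ N) ∣ ((S ⊓ X) ⊔ N).relIndex (X ⊔ N) :=
      Dvd.intro _ h5
    rw [h3] at h6
    exact h6.trans (Subgroup.relIndex_dvd_of_le_left _ le_sup_left)
  have h7 := eq_one_of_dvd_pow_of_dvd_coprime h2 h4 hX
  have h8 : (S ⊓ (X ⊔ N)) ⊔ N ≤ (S ⊓ X) ⊔ N := Subgroup.relIndex_eq_one.mp h7
  intro s hs
  have hs' : s ∈ (S ⊓ X) ⊔ N := h8 (Subgroup.mem_sup_left hs)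
  obtain ⟨a, ha, n, hn, rfl⟩ := Subgroup.mem_sup_of_normal_right.mp hs'
  have hnS : n ∈ S := by
    have e : n = a⁻¹ * (a * n) := by group
    rw [e]
    exact S.mul_mem (S.inv_mem ha.1) hs.1
  exact Subgroup.mul_mem _ (Subgroup.mem_sup_left ha) (Subgroup.mem_sup_right ⟨hnS, hn⟩)

/-- If `G / R` is a `p`-group and `S ∩ X` has index prime to `p` in `X`, then
`X = (X ∩ R)(X ∩ S)`. -/
theorem le_inf_sup_inf_of_pGroup_quotient [Finite G] {p : ℕ} [Fact p.Prime] {S X R : Subgroup G}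
    [hR : R.Normal] (hGR : IsPGroup p (G ⧸ R)) (hX : ((S ⊓ X).relIndex X).Coprime p) :
    X ≤ (X ⊓ R) ⊔ (X ⊓ S) := by
  obtain ⟨k, hk⟩ := hGR.exists_card_eq
  have h1 : ((X ⊓ R) ⊔ (X ⊓ S)).relIndex X ∣ p ^ k := by
    have h2 : ((X ⊓ R) ⊔ (X ⊓ S)).relIndex X ∣ (X ⊓ R).relIndex X :=
      Subgroup.relIndex_dvd_of_le_left _ le_sup_left
    rw [Subgroup.inf_relIndex_left] at h2
    have h3 : R.relIndex X ∣ R.index := Subgroup.relIndex_dvd_index_of_normal R X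
    have h4 : R.index = p ^ k := by rw [Subgroup.index, hk]
    rw [h4] at h3
    exact h2.trans h3
  have h5 : ((X ⊓ R) ⊔ (X ⊓ S)).relIndex X ∣ (S ⊓ X).relIndex X := by
    rw [inf_comm S X]
    exact Subgroup.relIndex_dvd_of_le_left _ le_sup_right
  exact Subgroup.relIndex_eq_one.mp (eq_one_of_dvd_pow_of_dvd_coprime h1 h5 hX)

/-- The Sylow-join property of a group: `S ∩ ⟨𝒳⟩ ≤ ⟨S ∩ X : X ∈ 𝒳⟩` for families of subnormal
subgroups. -/
def SylowJoinProp (p : ℕ) (G : Type*) [Group G] : Prop :=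
  ∀ (S : Sylow p G) (𝒳 : Set (Subgroup G)), (∀ X ∈ 𝒳, X.IsSubnormal) →
    sSup 𝒳 ⊓ (S : Subgroup G) ≤ sSup ((fun X => X ⊓ (S : Subgroup G)) '' 𝒳)

theorem coprime_relIndex_of_isSubnormal [Finite G] {p : ℕ} [Fact p.Prime] (S : Sylow p G)
    {X : Subgroup G} (hX : X.IsSubnormal) : (((S : Subgroup G) ⊓ X).relIndex X).Coprime p := by
  have hpp : p.Prime := Fact.out
  exact ((Nat.Prime.coprime_iff_not_dvd hpp).mpr
    (V12.not_dvd_relIndex_of_isSubnormal p S hX)).symm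

/-- Transport of the Sylow-join property from a subnormal subgroup `K` (as a group) to families of
subnormal subgroups contained in `K`. -/
theorem sylowJoin_of_subgroup [Finite G] {p : ℕ} [Fact p.Prime] {K : Subgroup G}
    (hK : K.IsSubnormal) (hyp : SylowJoinProp p ↥K) (S : Sylow p G) (𝒴 : Set (Subgroup G))
    (h𝒴 : ∀ Y ∈ 𝒴, Y ≤ K ∧ Y.IsSubnormal) :
    sSup 𝒴 ⊓ (S : Subgroup G) ≤ sSup ((fun X => X ⊓ (S : Subgroup G)) '' 𝒴) := by
  have hidx : ¬ p ∣ ((S : Subgroup G).subgroupOf K).index := by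
    have := V12.not_dvd_relIndex_of_isSubnormal p S hK
    rwa [Subgroup.inf_relIndex_right] at this
  obtain ⟨S', hS'⟩ : ∃ S' : Sylow p ↥K, (S' : Subgroup ↥K) = (S : Subgroup G).subgroupOf K :=
    ⟨(S.2.comap_subtype (K := K)).toSylow hidx, IsPGroup.toSylow_coe _ _⟩
  have h1 := hyp S' ((fun Y : Subgroup G => Y.subgroupOf K) '' 𝒴) (by
    rintro _ ⟨Y, hY, rfl⟩
    exact ((V12.SubnIn.of_isSubnormal (h𝒴 Y hY).2).of_le (h𝒴 Y hY).1
      le_top).isSubnormal_subgroupOf)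
  intro x hx
  have h2 : sSup 𝒴 ≤ (sSup ((fun Y : Subgroup G => Y.subgroupOf K) '' 𝒴)).map K.subtype := by
    apply sSup_le
    intro Y hY
    rw [← Subgroup.map_subgroupOf_eq_of_le (h𝒴 Y hY).1]
    exact Subgroup.map_mono (le_sSup ⟨Y, hY, rfl⟩)
  obtain ⟨y, hy, hyx⟩ := h2 hx.1
  have hyx' : (y : G) = x := hyx
  have hyS : y ∈ (S' : Subgroup ↥K) := by
    rw [hS']
    refine Subgroup.mem_subgroupOf.mpr ?_
    rw [hyx']
    exact hx.2
  have h3 := h1 ⟨hy, hyS⟩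
  have h4 : sSup ((fun X => X ⊓ (S' : Subgroup ↥K)) ''
      ((fun Y : Subgroup G => Y.subgroupOf K) '' 𝒴)) ≤
      (sSup ((fun X => X ⊓ (S : Subgroup G)) '' 𝒴)).comap K.subtype := by
    apply sSup_le
    rintro _ ⟨_, ⟨Y, hY, rfl⟩, rfl⟩
    intro z hz
    have hz1 : (z : G) ∈ Y := Subgroup.mem_subgroupOf.mp hz.1
    have hz2 : (z : G) ∈ (S : Subgroup G) := by
      have hz3 := hz.2
      rw [hS'] at hz3
      exact Subgroup.mem_subgroupOf.mp hz3
    exact (le_sSup (show Y ⊓ (S : Subgroup G) ∈ (fun X => X ⊓ (S : Subgroup G)) '' 𝒴 from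
      ⟨Y, hY, rfl⟩)) ⟨hz1, hz2⟩
  have h5 : (y : G) ∈ sSup ((fun X => X ⊓ (S : Subgroup G)) '' 𝒴) := h4 h3
  rw [← hyx']
  exact h5

/-- Transport of the Sylow-join property from a quotient: it gives the inequality modulo `N`. -/
theorem sylowJoin_of_quotient [Finite G] {p : ℕ} [Fact p.Prime] (N : Subgroup G) [N.Normal]
    (hyp : SylowJoinProp p (G ⧸ N)) (S : Sylow p G) (𝒳 : Set (Subgroup G))
    (h𝒳 : ∀ X ∈ 𝒳, X.IsSubnormal) :
    sSup 𝒳 ⊓ (S : Subgroup G) ≤ sSup ((fun X => X ⊓ (S : Subgroup G)) '' 𝒳) ⊔ N := by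
  have hsurj := QuotientGroup.mk'_surjective N
  have h1 := hyp (S.mapSurjective hsurj)
    ((fun X : Subgroup G => X.map (QuotientGroup.mk' N)) '' 𝒳) (by
      rintro _ ⟨X, hX, rfl⟩
      exact (h𝒳 X hX).map hsurj)
  rw [Sylow.coe_mapSurjective] at h1
  intro s hs
  have h2 : QuotientGroup.mk' N s ∈
      sSup ((fun X : Subgroup G => X.map (QuotientGroup.mk' N)) '' 𝒳) ⊓
        (S : Subgroup G).map (QuotientGroup.mk' N) := by
    refine ⟨?_, Subgroup.mem_map_of_mem _ hs.2⟩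
    have h3 : sSup 𝒳 ≤ (sSup ((fun X : Subgroup G => X.map (QuotientGroup.mk' N)) '' 𝒳)).comap
        (QuotientGroup.mk' N) := by
      apply sSup_le
      intro X hX
      rw [← Subgroup.map_le_iff_le_comap]
      exact le_sSup ⟨X, hX, rfl⟩
    exact h3 hs.1
  have h4 := h1 h2
  have h5 : sSup ((fun Y => Y ⊓ (S : Subgroup G).map (QuotientGroup.mk' N)) ''
      ((fun X : Subgroup G => X.map (QuotientGroup.mk' N)) '' 𝒳)) ≤
      (sSup ((fun X => X ⊓ (S : Subgroup G)) '' 𝒳) ⊔ N).map (QuotientGroup.mk' N) := by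
    apply sSup_le
    rintro _ ⟨_, ⟨X, hX, rfl⟩, rfl⟩
    rintro y ⟨⟨x, hx, rfl⟩, ⟨s', hs', hs'x⟩⟩
    have hs'XN : s' ∈ X ⊔ N := by
      have h6 : x⁻¹ * s' ∈ N := QuotientGroup.eq.mp hs'x.symm
      have e : s' = x * (x⁻¹ * s') := by group
      rw [e]
      exact Subgroup.mul_mem _ (Subgroup.mem_sup_left hx) (Subgroup.mem_sup_right h6)
    have h7 := inf_sup_normal_le S.2 (coprime_relIndex_of_isSubnormal S (h𝒳 X hX))
      (N := N) ⟨hs', hs'XN⟩
    have h8 : ((S : Subgroup G) ⊓ X) ⊔ ((S : Subgroup G) ⊓ N) ≤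
        sSup ((fun X => X ⊓ (S : Subgroup G)) '' 𝒳) ⊔ N := by
      apply sup_le_sup _ inf_le_right
      rw [inf_comm]
      exact le_sSup (show X ⊓ (S : Subgroup G) ∈ (fun X => X ⊓ (S : Subgroup G)) '' 𝒳 from
        ⟨X, hX, rfl⟩)
    rw [← hs'x]
    exact Subgroup.mem_map_of_mem _ (h8 h7)
  have h9 : s ∈ ((sSup ((fun X => X ⊓ (S : Subgroup G)) '' 𝒳) ⊔ N).map
      (QuotientGroup.mk' N)).comap (QuotientGroup.mk' N) := h5 h4
  rw [Subgroup.comap_map_eq, QuotientGroup.ker_mk', sup_assoc, sup_idem] at h9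
  exact h9

/-- Transfer step: if `S = Q × N` with `N` central and `O^p(G) = G`, then `N = 1`. -/
theorem eq_bot_of_central_complement_in_sylow [Finite G] {p : ℕ} [Fact p.Prime] (S : Sylow p G)
    {Q N : Subgroup G} (hQS : Q ≤ (S : Subgroup G)) (hNS : N ≤ (S : Subgroup G))
    (hNZ : N ≤ Subgroup.center G) (hS : (S : Subgroup G) ≤ Q ⊔ N) (hQN : Q ⊓ N = ⊥)
    (hres : Cfsg.pResidual p G = ⊤) : N = ⊥ := by
  have hpp : p.Prime := Fact.out
  haveI hNn : N.Normal := by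
    constructor
    intro n hn g
    have h1 := Subgroup.mem_center_iff.mp (hNZ hn) g
    have e : g * n * g⁻¹ = n := by rw [h1]; group
    rw [e]; exact hn
  -- decomposition of elements of `S`
  have hdec : ∀ s ∈ (S : Subgroup G), ∃ q ∈ Q, ∃ n ∈ N, q * n = s := fun s hs =>
    Subgroup.mem_sup_of_normal_right.mp (hS hs)
  have hcomm : ∀ n ∈ N, ∀ g : G, g * n = n * g := fun n hn g =>
    Subgroup.mem_center_iff.mp (hNZ hn) g
  haveI hQ'n : (Q.subgroupOf (S : Subgroup G)).Normal := by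
    constructor
    intro a ha s
    refine Subgroup.mem_subgroupOf.mpr ?_
    have ha' : (a : G) ∈ Q := Subgroup.mem_subgroupOf.mp ha
    obtain ⟨q, hq, n, hn, hqn⟩ := hdec s s.2
    have e : ((s * a * s⁻¹ : ↥(S : Subgroup G)) : G) = q * (a : G) * q⁻¹ := by
      push_cast
      rw [← hqn]
      have h1 := hcomm n hn (a : G)
      calc q * n * (a : G) * (q * n)⁻¹ = q * (n * (a : G)) * n⁻¹ * q⁻¹ := by group
        _ = q * ((a : G) * n) * n⁻¹ * q⁻¹ := by rw [h1]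
        _ = q * (a : G) * q⁻¹ := by group
    rw [e]
    exact Q.mul_mem (Q.mul_mem hq ha') (Q.inv_mem hq)
  letI : CommGroup (↥(S : Subgroup G) ⧸ Q.subgroupOf (S : Subgroup G)) :=
    { (inferInstance : Group (↥(S : Subgroup G) ⧸ Q.subgroupOf (S : Subgroup G))) with
      mul_comm := by
        intro x y
        obtain ⟨s, rfl⟩ := QuotientGroup.mk'_surjective _ x
        obtain ⟨t, rfl⟩ := QuotientGroup.mk'_surjective _ y
        rw [← map_mul, ← map_mul]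
        refine (QuotientGroup.eq).mpr ?_
        refine Subgroup.mem_subgroupOf.mpr ?_
        obtain ⟨q₁, hq₁, n₁, hn₁, h1⟩ := hdec s s.2
        obtain ⟨q₂, hq₂, n₂, hn₂, h2⟩ := hdec t t.2
        have e : (((s * t)⁻¹ * (t * s) : ↥(S : Subgroup G)) : G) =
            (q₁ * q₂)⁻¹ * (q₂ * q₁) := by
          push_cast
          rw [← h1, ← h2]
          have c1 := hcomm n₁ hn₁
          have c2 := hcomm n₂ hn₂
          have c3 := hcomm (n₁ * n₂) (N.mul_mem hn₁ hn₂)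
          have e1 : q₁ * n₁ * (q₂ * n₂) = (q₁ * q₂) * (n₁ * n₂) := by
            calc q₁ * n₁ * (q₂ * n₂) = q₁ * (n₁ * q₂) * n₂ := by group
              _ = q₁ * (q₂ * n₁) * n₂ := by rw [c1 q₂]
              _ = (q₁ * q₂) * (n₁ * n₂) := by group
          have e2 : q₂ * n₂ * (q₁ * n₁) = (q₂ * q₁) * (n₁ * n₂) := by
            calc q₂ * n₂ * (q₁ * n₁) = q₂ * (n₂ * (q₁ * n₁)) := by group
              _ = q₂ * ((q₁ * n₁) * n₂) := by rw [c2 (q₁ * n₁)]
              _ = (q₂ * q₁) * (n₁ * n₂) := by group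
          rw [e1, e2]
          calc (q₁ * q₂ * (n₁ * n₂))⁻¹ * (q₂ * q₁ * (n₁ * n₂))
              = (n₁ * n₂)⁻¹ * ((q₁ * q₂)⁻¹ * (q₂ * q₁) * (n₁ * n₂)) := by group
            _ = (n₁ * n₂)⁻¹ * ((n₁ * n₂) * ((q₁ * q₂)⁻¹ * (q₂ * q₁))) := by rw [c3]
            _ = (q₁ * q₂)⁻¹ * (q₂ * q₁) := by group
        rw [e]
        exact Q.mul_mem (Q.inv_mem (Q.mul_mem hq₁ hq₂)) (Q.mul_mem hq₂ hq₁) }
  -- the transfer into the abelian `p`-group `S / Q`
  have hB : IsPGroup p (↥(S : Subgroup G) ⧸ Q.subgroupOf (S : Subgroup G)) :=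
    S.2.to_quotient _
  obtain ⟨τ, hτ⟩ : ∃ τ : G →* (↥(S : Subgroup G) ⧸ Q.subgroupOf (S : Subgroup G)),
      τ = MonoidHom.transfer (QuotientGroup.mk' (Q.subgroupOf (S : Subgroup G))) := ⟨_, rfl⟩
  have hker : ∀ g : G, τ g = 1 := by
    have h1 : Cfsg.pResidual p G ≤ τ.ker := by
      unfold Cfsg.pResidual
      rw [Subgroup.closure_le]
      intro g hg
      refine MonoidHom.mem_ker.mpr ?_
      obtain ⟨k, hk⟩ := hB (τ g)
      have h2 : (orderOf (τ g)).Coprime p :=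
        Nat.Coprime.coprime_dvd_left (orderOf_map_dvd τ g) hg
      exact eq_one_of_coprime_of_pow h2 hk
    intro g
    have : g ∈ Cfsg.pResidual p G := by rw [hres]; exact Subgroup.mem_top g
    exact MonoidHom.mem_ker.mp (h1 this)
  rw [eq_bot_iff]
  intro n hn
  rw [Subgroup.mem_bot]
  have key : ∀ (k : ℕ) (g₀ : G), g₀⁻¹ * n ^ k * g₀ ∈ (S : Subgroup G) →
      g₀⁻¹ * n ^ k * g₀ = n ^ k := by
    intro k g₀ _
    have h1 := hcomm (n ^ k) (N.pow_mem hn k) g₀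
    rw [mul_assoc, ← h1]; group
  have h2 := MonoidHom.transfer_eq_pow (QuotientGroup.mk' (Q.subgroupOf (S : Subgroup G))) n key
  rw [← hτ, hker n] at h2
  have h3 : n ^ (S : Subgroup G).index ∈ Q := by
    have h4 := (QuotientGroup.eq_one_iff _).mp h2.symm
    exact Subgroup.mem_subgroupOf.mp h4
  have h5 : n ^ (S : Subgroup G).index ∈ Q ⊓ N := ⟨h3, N.pow_mem hn _⟩
  rw [hQN, Subgroup.mem_bot] at h5
  obtain ⟨k, hk⟩ := (S.2.to_le hNS) ⟨n, hn⟩
  have hk' : n ^ p ^ k = 1 := by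
    have := congrArg Subtype.val hk
    simpa using this
  have h6 : orderOf n ∣ (S : Subgroup G).index := orderOf_dvd_of_pow_eq_one h5
  have h7 : ((S : Subgroup G).index).Coprime p :=
    ((Nat.Prime.coprime_iff_not_dvd hpp).mpr S.not_dvd_index).symm
  exact eq_one_of_coprime_of_pow (Nat.Coprime.coprime_dvd_left h6 h7) hk'

theorem isSubnormal_conj_smul {X : Subgroup G} (hX : X.IsSubnormal) (g : G) :
    (MulAut.conj g • X).IsSubnormal := by
  have h1 := (V12.SubnIn.of_isSubnormal hX).conj g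
  have h2 : MulAut.conj g • (⊤ : Subgroup G) = ⊤ := by
    rw [eq_top_iff]
    intro x _
    rw [Subgroup.mem_pointwise_smul_iff_inv_smul_mem]
    exact Subgroup.mem_top _
  rw [h2] at h1
  exact h1.isSubnormal

/-- Residual step of the Sylow-join induction. -/
theorem sylowJoin_step_residual [Finite G] {p : ℕ} [Fact p.Prime] (S : Sylow p G)
    (𝒳 : Set (Subgroup G)) (h𝒳 : ∀ X ∈ 𝒳, X.IsSubnormal) (htop : sSup 𝒳 = ⊤)
    (hyp : SylowJoinProp p ↥(Cfsg.pResidual p G)) :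
    sSup 𝒳 ⊓ (S : Subgroup G) ≤ sSup ((fun X => X ⊓ (S : Subgroup G)) '' 𝒳) := by
  obtain ⟨Q, hQ⟩ : ∃ Q, Q = sSup ((fun X => X ⊓ (S : Subgroup G)) '' 𝒳) := ⟨_, rfl⟩
  obtain ⟨R, hR⟩ : ∃ R, R = Cfsg.pResidual p G := ⟨_, rfl⟩
  rw [← hQ]
  rw [← hR] at hyp
  haveI hRn : R.Normal := by
    rw [hR]
    haveI := pResidual_characteristic p G
    infer_instance
  have hQS : Q ≤ (S : Subgroup G) := by
    rw [hQ]
    apply sSup_le
    rintro _ ⟨X, _, rfl⟩
    exact inf_le_right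
  have hXQ : ∀ X ∈ 𝒳, X ⊓ (S : Subgroup G) ≤ Q := by
    intro X hX
    rw [hQ]
    exact le_sSup ⟨X, hX, rfl⟩
  obtain ⟨𝒴, h𝒴⟩ : ∃ 𝒴 : Set (Subgroup G),
      𝒴 = {Y | ∃ X ∈ 𝒳, ∃ q ∈ Q, Y = MulAut.conj q • (X ⊓ R)} := ⟨_, rfl⟩
  have hmem𝒴 : ∀ X ∈ 𝒳, ∀ q ∈ Q, MulAut.conj q • (X ⊓ R) ∈ 𝒴 := by
    intro X hX q hq
    rw [h𝒴]
    exact ⟨X, hX, q, hq, rfl⟩
  have h𝒴R : ∀ Y ∈ 𝒴, Y ≤ R ∧ Y.IsSubnormal := by
    intro Y hY
    rw [h𝒴] at hY
    obtain ⟨X, hX, q, hq, rfl⟩ := hY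
    constructor
    · intro y hy
      rw [Subgroup.mem_pointwise_smul_iff_inv_smul_mem] at hy
      have h1 : (MulAut.conj q)⁻¹ • y ∈ R := hy.2
      have h2 := hRn.conj_mem _ h1 q
      have e : q * (MulAut.conj q)⁻¹ • y * q⁻¹ = y := by
        simp [MulAut.smul_def, MulAut.conj_inv_apply]
        group
      rw [e] at h2
      exact h2
    · exact isSubnormal_conj_smul ((h𝒳 X hX).inf hRn.isSubnormal) q
  have hR₃R : sSup 𝒴 ≤ R := sSup_le fun Y hY => (h𝒴R Y hY).1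
  -- `Q` normalizes `R₃`
  have hQnorm : Q ≤ Subgroup.normalizer ((sSup 𝒴 : Subgroup G) : Set G) := by
    apply le_normalizer_of_conj_mem
    intro q' hq' w hw
    have h1 : sSup 𝒴 ≤ (sSup 𝒴).comap (MulAut.conj q').toMonoidHom := by
      apply sSup_le
      intro Y hY
      rw [h𝒴] at hY
      obtain ⟨X, hX, q, hq, rfl⟩ := hY
      intro y hy
      have h2 : MulAut.conj (q' * q) • (X ⊓ R) ∈ 𝒴 := hmem𝒴 X hX _ (Q.mul_mem hq' hq)
      refine (le_sSup h2) ?_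
      rw [Subgroup.mem_pointwise_smul_iff_inv_smul_mem] at hy ⊢
      have e : (MulAut.conj (q' * q))⁻¹ • ((MulAut.conj q').toMonoidHom y) =
          (MulAut.conj q)⁻¹ • y := by
        simp [MulAut.smul_def, MulAut.conj_inv_apply]
        group
      rw [e]
      exact hy
    exact h1 hw
  -- `G = R₃ Q`
  have hcop : ∀ X ∈ 𝒳, (((S : Subgroup G) ⊓ X).relIndex X).Coprime p := fun X hX =>
    coprime_relIndex_of_isSubnormal S (h𝒳 X hX)
  have hGR : IsPGroup p (G ⧸ R) := by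
    subst hR
    exact isPGroup_quotient_pResidual (H := G) (p := p)
  have htop' : (⊤ : Subgroup G) ≤ Q ⊔ sSup 𝒴 := by
    rw [← htop]
    apply sSup_le
    intro X hX
    refine (le_inf_sup_inf_of_pGroup_quotient hGR (hcop X hX)).trans ?_
    apply sup_le
    · refine le_trans ?_ le_sup_right
      have h2 := hmem𝒴 X hX 1 Q.one_mem
      have e : MulAut.conj (1 : G) • (X ⊓ R) = X ⊓ R := by
        rw [map_one, one_smul]
      rw [e] at h2
      exact le_sSup h2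
    · exact (hXQ X hX).trans le_sup_left
  have hRR₃ : R ≤ sSup 𝒴 := by
    rw [hR]
    unfold Cfsg.pResidual
    rw [Subgroup.closure_le]
    intro g hg
    exact mem_of_coprime_of_mem_sup (S.2.to_le hQS) hQnorm (htop' (Subgroup.mem_top g)) hg
  have hReq : sSup 𝒴 = R := le_antisymm hR₃R hRR₃
  have h1 := sylowJoin_of_subgroup hRn.isSubnormal hyp S 𝒴 h𝒴R
  rw [hReq] at h1
  have h2 : sSup ((fun X => X ⊓ (S : Subgroup G)) '' 𝒴) ≤ Q := by
    apply sSup_le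
    rintro _ ⟨Y, hY, rfl⟩
    rw [h𝒴] at hY
    obtain ⟨X, hX, q, hq, rfl⟩ := hY
    intro y hy
    have hy1 : y ∈ MulAut.conj q • (X ⊓ R) := hy.1
    have hy2 : y ∈ (S : Subgroup G) := hy.2
    rw [Subgroup.mem_pointwise_smul_iff_inv_smul_mem] at hy1
    have e : (MulAut.conj q)⁻¹ • y = q⁻¹ * y * q := by
      simp [MulAut.smul_def, MulAut.conj_inv_apply]
    rw [e] at hy1
    have h3 : q⁻¹ * y * q ∈ (S : Subgroup G) :=
      Subgroup.mul_mem _ (Subgroup.mul_mem _ (Subgroup.inv_mem _ (hQS hq)) hy2) (hQS hq)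
    have h4 : q⁻¹ * y * q ∈ Q := hXQ X hX ⟨hy1.1, h3⟩
    have e2 : y = q * (q⁻¹ * y * q) * q⁻¹ := by group
    rw [e2]
    exact Q.mul_mem (Q.mul_mem hq h4) (Q.inv_mem hq)
  have hRSQ : R ⊓ (S : Subgroup G) ≤ Q := h1.trans h2
  rintro s ⟨-, hs⟩
  have h3 : s ∈ R ⊔ Q := by
    have := htop' (Subgroup.mem_top s)
    rw [hReq, sup_comm] at this
    exact this
  obtain ⟨r, hr, q, hq, rfl⟩ := Subgroup.mem_sup_of_normal_left.mp h3
  have hrS : r ∈ (S : Subgroup G) := by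
    have e : r = r * q * q⁻¹ := by group
    rw [e]
    exact Subgroup.mul_mem _ hs (Subgroup.inv_mem _ (hQS hq))
  exact Q.mul_mem (hRSQ ⟨hr, hrS⟩) hq

/-- Minimal-normal step of the Sylow-join induction. -/
theorem sylowJoin_step_min {G : Type u} [Group G] [Finite G] [Nontrivial G] {p : ℕ}
    [Fact p.Prime]
    (ih : ∀ (H : Type u) [Group H] [Finite H], Nat.card H < Nat.card G → SylowJoinProp p H)
    (S : Sylow p G) (𝒳 : Set (Subgroup G)) (h𝒳 : ∀ X ∈ 𝒳, X.IsSubnormal) (htop : sSup 𝒳 = ⊤)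
    (hres : Cfsg.pResidual p G = ⊤) :
    sSup 𝒳 ⊓ (S : Subgroup G) ≤ sSup ((fun X => X ⊓ (S : Subgroup G)) '' 𝒳) := by
  obtain ⟨Q, hQ⟩ : ∃ Q, Q = sSup ((fun X => X ⊓ (S : Subgroup G)) '' 𝒳) := ⟨_, rfl⟩
  rw [← hQ]
  have hQS : Q ≤ (S : Subgroup G) := by
    rw [hQ]
    apply sSup_le
    rintro _ ⟨X, _, rfl⟩
    exact inf_le_right
  have hXQ : ∀ X ∈ 𝒳, X ⊓ (S : Subgroup G) ≤ Q := by
    intro X hX
    rw [hQ]
    exact le_sSup ⟨X, hX, rfl⟩
  obtain ⟨N, -, hN⟩ := V12.exists_isMinNormalIn (A := (⊤ : Subgroup G)) (K := ⊤) le_rfl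
    top_ne_bot Subgroup.le_normalizer
  haveI hNn : N.Normal := by
    rw [← Subgroup.normalizer_eq_top_iff]; exact top_le_iff.mp hN.2.2.1
  have hNne : N ≠ ⊥ := hN.2.1
  have hmin : ∀ L : Subgroup G, L ≤ N → L ≠ ⊥ → L.Normal → L = N := fun L hL hL0 hLn =>
    hN.2.2.2 L hL hL0 (by rw [Subgroup.normalizer_eq_top_iff.mpr hLn])
  have hNX : ∀ X ∈ 𝒳, N ≤ Subgroup.normalizer (X : Set G) := fun X hX =>
    V12.isMinNormalIn_le_normalizer (V12.SubnIn.of_isSubnormal (h𝒳 X hX)) hN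
  have hcard : Nat.card (G ⧸ N) < Nat.card G := V12.card_quotient_lt_of_ne_bot N hNne
  have h1 := sylowJoin_of_quotient N (ih _ hcard) S 𝒳 h𝒳
  rw [← hQ] at h1
  suffices hSN : (S : Subgroup G) ⊓ N ≤ Q by
    rintro s ⟨hs1, hs2⟩
    obtain ⟨q, hq, n, hn, rfl⟩ := Subgroup.mem_sup_of_normal_right.mp (h1 ⟨hs1, hs2⟩)
    have hnS : n ∈ (S : Subgroup G) := by
      have e : n = q⁻¹ * (q * n) := by group
      rw [e]
      exact Subgroup.mul_mem _ (Subgroup.inv_mem _ (hQS hq)) hs2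
    exact Q.mul_mem hq (hSN ⟨hnS, hn⟩)
  obtain ⟨N₁, hN₁⟩ : ∃ N₁, N₁ = sSup ((fun X => X ⊓ N) '' 𝒳) := ⟨_, rfl⟩
  have hN₁N : N₁ ≤ N := by
    rw [hN₁]
    apply sSup_le
    rintro _ ⟨X, _, rfl⟩
    exact inf_le_right
  have hXN₁ : ∀ X ∈ 𝒳, X ⊓ N ≤ N₁ := by
    intro X hX
    rw [hN₁]
    exact le_sSup ⟨X, hX, rfl⟩
  have hcommXN : ∀ X ∈ 𝒳, ∀ x ∈ X, ∀ y ∈ N, x * y * x⁻¹ * y⁻¹ ∈ X ⊓ N := by
    intro X hX x hx y hy
    constructor
    · have h2 := conj_mem_of_mem_normalizer (hNX X hX hy) (X.inv_mem hx)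
      have e : x * y * x⁻¹ * y⁻¹ = x * (y * x⁻¹ * y⁻¹) := by group
      rw [e]
      exact X.mul_mem hx h2
    · exact N.mul_mem (hNn.conj_mem y hy x) (N.inv_mem hy)
  have hN₁n : N₁.Normal := by
    rw [← Subgroup.normalizer_eq_top_iff, eq_top_iff, ← htop]
    apply sSup_le
    intro X' hX'
    apply le_normalizer_of_conj_mem
    intro x' hx' w hw
    have h2 : sSup ((fun X => X ⊓ N) '' 𝒳) ≤ N₁.comap (MulAut.conj x').toMonoidHom := by
      apply sSup_le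
      rintro _ ⟨X, hX, rfl⟩
      intro y hy
      have hy2 : y ∈ N := hy.2
      show x' * y * x'⁻¹ ∈ N₁
      have e : x' * y * x'⁻¹ = (x' * y * x'⁻¹ * y⁻¹) * y := by group
      rw [e]
      exact N₁.mul_mem (hXN₁ X' hX' (hcommXN X' hX' x' hx' y hy2)) (hXN₁ X hX hy)
    rw [← hN₁] at h2
    exact h2 hw
  by_cases hN₁0 : N₁ = ⊥
  · -- `N` is central
    have hNZ : N ≤ Subgroup.center G := by
      have h2 : ∀ X ∈ 𝒳, X ≤ Subgroup.centralizer (N : Set G) := by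
        intro X hX x hx
        refine Subgroup.mem_centralizer_iff.mpr ?_
        intro n hn
        have h4 := hXN₁ X hX (hcommXN X hX x hx n hn)
        rw [hN₁0, Subgroup.mem_bot] at h4
        have h5 : x * n = n * x := by
          have e : x * n = (x * n * x⁻¹ * n⁻¹) * (n * x) := by group
          rw [e, h4, one_mul]
        exact h5.symm
      have h3 : (⊤ : Subgroup G) ≤ Subgroup.centralizer (N : Set G) := by
        rw [← htop]; exact sSup_le h2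
      intro n hn
      rw [Subgroup.mem_center_iff]
      intro g
      have h5 := Subgroup.mem_centralizer_iff.mp (h3 (Subgroup.mem_top g)) n hn
      exact h5.symm
    have hcn : ∀ L : Subgroup G, L ≤ N → L.Normal := by
      intro L hL
      constructor
      intro l hl g
      have h5 := Subgroup.mem_center_iff.mp (hNZ (hL hl)) g
      have e : g * l * g⁻¹ = l := by rw [h5]; group
      rw [e]; exact hl
    by_cases hSN0 : (S : Subgroup G) ⊓ N = ⊥
    · rw [hSN0]; exact bot_le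
    have hSNeq : (S : Subgroup G) ⊓ N = N := hmin _ inf_le_right hSN0 (hcn _ inf_le_right)
    have hNS : N ≤ (S : Subgroup G) := by rw [← hSNeq]; exact inf_le_left
    by_cases hQN0 : Q ⊓ N = ⊥
    · exfalso
      apply hNne
      refine eq_bot_of_central_complement_in_sylow S hQS hNS hNZ ?_ hQN0 hres
      intro s hs
      exact h1 ⟨by rw [htop]; exact Subgroup.mem_top s, hs⟩
    · have hQNeq : Q ⊓ N = N := hmin _ inf_le_right hQN0 (hcn _ inf_le_right)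
      rw [hSNeq, ← hQNeq]; exact inf_le_left
  · have hN₁eq : N₁ = N := hmin N₁ hN₁N hN₁0 hN₁n
    by_cases hNtop : N = ⊤
    · -- every member is trivial or everything
      have hX : ∀ X ∈ 𝒳, X = ⊥ ∨ X = ⊤ := by
        intro X hX
        by_contra hcon
        push Not at hcon
        obtain ⟨K', hXK', hK'lt, hK'n, -⟩ :=
          (V12.SubnIn.of_isSubnormal (h𝒳 X hX)).exists_normal_lt hcon.2
        have hK'0 : K' ≠ ⊥ := fun h => hcon.1 (by rw [eq_bot_iff, ← h]; exact hXK')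
        have h5 := hN.2.2.2 K' (by rw [hNtop]; exact le_top) hK'0 hK'n
        rw [hNtop] at h5
        exact hK'lt.ne h5
      have hmem : (⊤ : Subgroup G) ∈ 𝒳 := by
        by_contra hcon
        have h5 : sSup 𝒳 ≤ ⊥ := sSup_le (fun X hX' => by
          rcases hX X hX' with h | h
          · rw [h]
          · exact absurd (h ▸ hX') hcon)
        rw [htop] at h5
        exact top_ne_bot (eq_bot_iff.mpr h5)
      refine le_trans inf_le_left ?_
      have h5 := hXQ ⊤ hmem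
      rwa [top_inf_eq] at h5
    · have hcardN : Nat.card ↥N < Nat.card G := by
        have h5 := V12.card_lt_card_of_lt' (lt_top_iff_ne_top.mpr hNtop)
        rwa [Subgroup.card_top] at h5
      have h2 := sylowJoin_of_subgroup hNn.isSubnormal (ih _ hcardN) S
        ((fun X => X ⊓ N) '' 𝒳) (by
          rintro _ ⟨X, hX, rfl⟩
          exact ⟨inf_le_right, (h𝒳 X hX).inf hNn.isSubnormal⟩)
      rw [← hN₁, hN₁eq] at h2
      rw [inf_comm]
      refine h2.trans ?_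
      apply sSup_le
      rintro _ ⟨_, ⟨X, hX, rfl⟩, rfl⟩
      exact (inf_le_inf_right _ inf_le_left).trans (hXQ X hX)

theorem sylowJoin_aux (p : ℕ) [Fact p.Prime] (n : ℕ) :
    ∀ (G : Type u) [Group G] [Finite G], Nat.card G = n → SylowJoinProp p G := by
  induction n using Nat.strong_induction_on with
  | _ n ih =>
    intro G _ _ hn S 𝒳 h𝒳
    by_cases htop : sSup 𝒳 = ⊤
    swap
    · have hK : (sSup 𝒳).IsSubnormal :=
        (V12.subnIn_sSup 𝒳 (fun X hX => V12.SubnIn.of_isSubnormal (h𝒳 X hX))).isSubnormal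
      have hcard : Nat.card ↥(sSup 𝒳) < n := by
        have h5 := V12.card_lt_card_of_lt' (lt_top_iff_ne_top.mpr htop)
        rwa [Subgroup.card_top, hn] at h5
      exact sylowJoin_of_subgroup hK (ih _ hcard _ rfl) S 𝒳
        (fun X hX => ⟨le_sSup hX, h𝒳 X hX⟩)
    by_cases hR : Cfsg.pResidual p G = ⊤
    swap
    · have hcard : Nat.card ↥(Cfsg.pResidual p G) < n := by
        have h5 := V12.card_lt_card_of_lt' (lt_top_iff_ne_top.mpr hR)
        rwa [Subgroup.card_top, hn] at h5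
      exact sylowJoin_step_residual S 𝒳 h𝒳 htop (ih _ hcard _ rfl)
    rcases subsingleton_or_nontrivial G with hsub | hnt
    · intro x _
      have : x = 1 := Subsingleton.elim _ _
      rw [this]
      exact Subgroup.one_mem _
    · exact sylowJoin_step_min (fun H _ _ hcard => ih _ (hn ▸ hcard) H rfl) S 𝒳 h𝒳 htop hR

/-- **Wielandt**: a Sylow `p`-subgroup of the join of a family of subnormal subgroups is generated
by its intersections with the members. -/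
theorem sylowJoin {G : Type u} [Group G] [Finite G] {p : ℕ} [Fact p.Prime] (S : Sylow p G)
    (𝒳 : Set (Subgroup G)) (h𝒳 : ∀ X ∈ 𝒳, X.IsSubnormal) :
    sSup 𝒳 ⊓ (S : Subgroup G) = sSup ((fun X => X ⊓ (S : Subgroup G)) '' 𝒳) := by
  apply le_antisymm (sylowJoin_aux p _ G rfl S 𝒳 h𝒳)
  apply sSup_le
  rintro _ ⟨X, hX, rfl⟩
  exact inf_le_inf_right _ (le_sSup hX)

/-- The two-subgroup form. -/
theorem sylowJoin_sup {G : Type u} [Group G] [Finite G] {p : ℕ} [Fact p.Prime] (S : Sylow p G)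
    {A₁ A₂ : Subgroup G} (h₁ : A₁.IsSubnormal) (h₂ : A₂.IsSubnormal) :
    (A₁ ⊔ A₂) ⊓ (S : Subgroup G) = (A₁ ⊓ (S : Subgroup G)) ⊔ (A₂ ⊓ (S : Subgroup G)) := by
  have h := sylowJoin S {A₁, A₂} (by
    intro X hX
    rcases hX with rfl | rfl
    · exact h₁
    · exact h₂)
  rw [sSup_pair, Set.image_pair, sSup_pair] at h
  exact h

end Cfsg.Agent.H52
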