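import Mathlib
import Cfsg.Prelude.Def_Local
import Cfsg.Prelude.Def_LocalStructure
import Cfsg.Prelude.Def_LocalEven
import Cfsg.Agent.H52.Basic
import Cfsg.Agent.H52.PReduced
import Cfsg.Agent.H52.Kieler
import Cfsg.Agent.H52.SylowJoin

/-!
# Point stabilizers in groups of local characteristic `p` (helper52)

Kieler's lemma in groups of local characteristic `p`, and the point stabilizer of a join of
subnormal subgroups.
-/

set_option autoImplicit false

namespace Cfsg.Agent.H52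

open Subgroup Pointwise
open scoped commutatorElement

universe u

variable {G : Type*} [Group G]

/-- `Ω₁(Z(P))` is nontrivial for a nontrivial finite `p`-group `P`. -/
theorem omegaOne_center_ne_bot [Finite G] {p : ℕ} [Fact p.Prime] {P : Subgroup G}
    (hP : IsPGroup p P) (hne : P ≠ ⊥) :
    Cfsg.omegaOne p (P ⊓ Subgroup.centralizer (P : Set G)) ≠ ⊥ := by
  have hpp : p.Prime := Fact.out
  haveI : Nontrivial ↥P := (Subgroup.nontrivial_iff_ne_bot P).mpr hne
  haveI := hP.center_nontrivial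
  have hZ : IsPGroup p ↥(Subgroup.center ↥P) := hP.to_subgroup _
  have hdvd : p ∣ Nat.card ↥(Subgroup.center ↥P) := by
    obtain ⟨k, hk⟩ := hZ.exists_card_eq
    have hk0 : k ≠ 0 := by
      rintro rfl
      rw [pow_zero] at hk
      have := (Subgroup.center ↥P).one_lt_card_iff_ne_bot.mpr
        ((Subgroup.nontrivial_iff_ne_bot _).mp inferInstance)
      omega
    rw [hk]
    exact dvd_pow_self p hk0
  obtain ⟨w, hw⟩ := exists_prime_orderOf_dvd_card' p hdvd
  have hw1 : ((w : ↥P) : G) ∈ Cfsg.omegaOne p (P ⊓ Subgroup.centralizer (P : Set G)) := by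
    apply mem_omegaOne_center (w : ↥P).2
    · refine Subgroup.mem_centralizer_iff.mpr ?_
      intro a ha
      have h1 := Subgroup.mem_center_iff.mp w.2 ⟨a, ha⟩
      exact congrArg Subtype.val h1
    · have h1 : w ^ p = 1 := by rw [← hw]; exact pow_orderOf_eq_one w
      have h2 := congrArg (fun x : ↥(Subgroup.center ↥P) => ((x : ↥P) : G)) h1
      simpa using h2
  intro hbot
  rw [hbot, Subgroup.mem_bot] at hw1
  have h3 : w = 1 := by
    apply Subtype.ext
    apply Subtype.ext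
    simpa using hw1
  rw [h3, orderOf_one] at hw
  exact hpp.one_lt.ne hw

/-- A `p`-subgroup `U` of `X` normalized by a `p`-subgroup `T` of index prime to `p` in `X` lies
in `T`. -/
theorem pGroup_le_of_coprime_relIndex [Finite G] {p : ℕ} [Fact p.Prime] {T X U : Subgroup G}
    (hT : IsPGroup p T) (hTX : T ≤ X) (hcop : (T.relIndex X).Coprime p) (hU : IsPGroup p U)
    (hUX : U ≤ X) (hTU : T ≤ Subgroup.normalizer (U : Set G)) : U ≤ T := by
  have hV : IsPGroup p ↥(T ⊔ U) := hT.to_sup_of_normal_right' hU hTU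
  have h1 := Subgroup.relIndex_mul_relIndex T (T ⊔ U) X le_sup_left (sup_le hTX hUX)
  obtain ⟨k, hk⟩ := hV.index (T.subgroupOf (T ⊔ U))
  have h2 : T.relIndex (T ⊔ U) = 1 :=
    eq_one_of_dvd_pow_of_dvd_coprime (hk ▸ dvd_rfl : T.relIndex (T ⊔ U) ∣ p ^ k)
      (Dvd.intro _ h1) hcop
  exact le_sup_right.trans (Subgroup.relIndex_eq_one.mp h2)

/-- Data of a subgroup `M` of characteristic `p` (as a group), in ambient form. -/
theorem charp_subgroup_data [Finite G] {p : ℕ} [Fact p.Prime] (M : Subgroup G)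
    (hM : Subgroup.centralizer (Cfsg.pCore p ↥M : Set ↥M) ≤ Cfsg.pCore p ↥M) :
    (Cfsg.pCore p ↥M).map M.subtype ≤ M ∧
    M ≤ Subgroup.normalizer (((Cfsg.pCore p ↥M).map M.subtype : Subgroup G) : Set G) ∧
    IsPGroup p ↥((Cfsg.pCore p ↥M).map M.subtype) ∧
    ∀ Y : Subgroup G, Y.IsSubnormal →
      (Y ⊓ M) ⊓ Subgroup.centralizer ((((Cfsg.pCore p ↥M).map M.subtype ⊓ Y : Subgroup G)) : Set G)
        ≤ (Cfsg.pCore p ↥M).map M.subtype := by
  refine ⟨Subgroup.map_subtype_le _, ?_, (pCore_isPGroup p ↥M).map _, ?_⟩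
  · apply le_normalizer_of_conj_mem
    rintro m hm _ ⟨x, hx, rfl⟩
    have h1 := (Cfsg.pCore_normal p ↥M).conj_mem x hx ⟨m, hm⟩
    exact ⟨_, h1, rfl⟩
  · intro Y hY y hy
    have hyY : y ∈ Y := hy.1.1
    have hyM : y ∈ M := hy.1.2
    have hyc := Subgroup.mem_centralizer_iff.mp hy.2
    have hL : (Y.subgroupOf M).IsSubnormal := hY.subgroupOf
    have h1 := (kieler_aux hM (default : Sylow p ↥M) hL).1
    have h2 : (⟨y, hyM⟩ : ↥M) ∈ Y.subgroupOf M ⊓
        Subgroup.centralizer ((Cfsg.pCore p ↥M ⊓ Y.subgroupOf M : Subgroup ↥M) : Set ↥M) := by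
      refine ⟨Subgroup.mem_subgroupOf.mpr hyY, ?_⟩
      refine Subgroup.mem_centralizer_iff.mpr ?_
      intro z hz
      apply Subtype.ext
      exact hyc (z : G) ⟨Subgroup.mem_map_of_mem _ hz.1, Subgroup.mem_subgroupOf.mp hz.2⟩
    exact ⟨_, h1 h2, rfl⟩

/-- Normal step of Kieler's lemma inside a `p`-local subgroup `N(R)` of a group of local
characteristic `p`. -/
theorem kieler_local_step [Finite G] {p : ℕ} [Fact p.Prime]
    (hG : Cfsg.IsOfLocalCharacteristic p G) (T : Sylow p G) {X X₁ R : Subgroup G}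
    (hX : X.IsSubnormal) (hX₁ : X₁.IsSubnormal) (hXX₁ : X ≤ X₁)
    (hX₁X : X₁ ≤ Subgroup.normalizer (X : Set G)) (hR : IsPGroup p R) (hRne : R ≠ ⊥)
    (hTR : (T : Subgroup G) ⊓ X₁ ≤ Subgroup.normalizer (R : Set G)) :
    (X ⊓ Subgroup.normalizer (R : Set G)) ⊓
        Subgroup.centralizer ((Cfsg.omegaOne p (((T : Subgroup G) ⊓ X₁) ⊓
          Subgroup.centralizer ((((T : Subgroup G) ⊓ X₁ : Subgroup G)) : Set G))) : Set G) =
      (X ⊓ Subgroup.normalizer (R : Set G)) ⊓
        Subgroup.centralizer ((Cfsg.omegaOne p (((T : Subgroup G) ⊓ X) ⊓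
          Subgroup.centralizer ((((T : Subgroup G) ⊓ X : Subgroup G)) : Set G))) : Set G) := by
  have hM := hG.2 R hR hRne
  generalize Subgroup.normalizer (R : Set G) = M at hM hTR ⊢
  obtain ⟨hP'M, hMP', hP'p, hK1⟩ := charp_subgroup_data M hM
  generalize (Cfsg.pCore p ↥M).map M.subtype = P' at hP'M hMP' hP'p hK1
  have hTXM : (T : Subgroup G) ⊓ X ≤ M := (inf_le_inf_left _ hXX₁).trans hTR
  have e : ((T : Subgroup G) ⊓ X₁) ⊓ (X ⊓ M) = (T : Subgroup G) ⊓ X := by
    apply le_antisymm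
    · exact le_inf (inf_le_left.trans inf_le_left) (inf_le_right.trans inf_le_left)
    · exact le_inf (inf_le_inf_left _ hXX₁) (le_inf inf_le_right hTXM)
  have e2 : (P' ⊓ X₁) ⊓ (X ⊓ M) = P' ⊓ X := by
    apply le_antisymm
    · exact le_inf (inf_le_left.trans inf_le_left) (inf_le_right.trans inf_le_left)
    · exact le_inf (inf_le_inf_left _ hXX₁) (le_inf inf_le_right (inf_le_left.trans hP'M))
  have hPT : P' ⊓ X₁ ≤ (T : Subgroup G) ⊓ X₁ := by
    apply pGroup_le_of_coprime_relIndex (T.2.to_le inf_le_left) inf_le_right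
      (coprime_relIndex_of_isSubnormal T hX₁) (hP'p.to_le inf_le_left) inf_le_right
    apply le_normalizer_of_conj_mem
    intro g hg w hw
    exact ⟨conj_mem_of_mem_normalizer (hMP' (hTR hg)) hw.1,
      X₁.mul_mem (X₁.mul_mem hg.2 hw.2) (X₁.inv_mem hg.2)⟩
  have hKP : X₁ ⊓ M ≤ Subgroup.normalizer ((P' ⊓ X₁ : Subgroup G) : Set G) := by
    apply le_normalizer_of_conj_mem
    intro g hg w hw
    exact ⟨conj_mem_of_mem_normalizer (hMP' hg.2) hw.1,
      X₁.mul_mem (X₁.mul_mem hg.1 hw.2) (X₁.inv_mem hg.1)⟩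
  have hKc : (X₁ ⊓ M) ⊓ Subgroup.centralizer ((P' ⊓ X₁ : Subgroup G) : Set G) ≤ P' ⊓ X₁ :=
    le_inf (hK1 X₁ hX₁) (inf_le_left.trans inf_le_left)
  have hKL : X₁ ⊓ M ≤ Subgroup.normalizer ((X ⊓ M : Subgroup G) : Set G) := by
    apply le_normalizer_of_conj_mem
    intro g hg w hw
    exact ⟨conj_mem_of_mem_normalizer (hX₁X hg.1) hw.1,
      M.mul_mem (M.mul_mem hg.2 hw.2) (M.inv_mem hg.2)⟩
  have hLc : (X ⊓ M) ⊓ Subgroup.centralizer (((P' ⊓ X₁) ⊓ (X ⊓ M) : Subgroup G) : Set G) ≤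
      P' ⊓ X₁ := by
    rw [e2]
    exact le_inf (hK1 X hX) (inf_le_left.trans (inf_le_left.trans hXX₁))
  have hcop : ((((T : Subgroup G) ⊓ X₁) ⊓ (X ⊓ M)).relIndex (X ⊓ M)).Coprime p := by
    rw [e]
    have h2 := Subgroup.relIndex_mul_relIndex ((T : Subgroup G) ⊓ X) (X ⊓ M) X
      (le_inf inf_le_right hTXM) inf_le_left
    exact Nat.Coprime.coprime_dvd_left (Dvd.intro _ h2) (coprime_relIndex_of_isSubnormal T hX)
  have key := kieler_normal (K := X₁ ⊓ M) (T := (T : Subgroup G) ⊓ X₁) (P := P' ⊓ X₁)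
    (L := X ⊓ M) (T.2.to_le inf_le_left) (le_inf inf_le_right hTR) hPT hKP hKc
    (inf_le_inf_right _ hXX₁) hKL hLc hcop
  rw [e] at key
  exact key

/-- **Kieler's lemma** in a group of local characteristic `p`: for a subnormal subgroup `X` meeting
the Sylow `p`-subgroup `T` nontrivially, `C_X(Ω₁(Z(T ∩ X))) = C_X(Ω₁(Z(T)))`. -/
theorem kieler_local [Finite G] {p : ℕ} [Fact p.Prime]
    (hG : Cfsg.IsOfLocalCharacteristic p G) (T : Sylow p G) {X : Subgroup G}
    (hX : X.IsSubnormal) (hne : (T : Subgroup G) ⊓ X ≠ ⊥) :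
    X ⊓ Subgroup.centralizer ((Cfsg.omegaOne p (((T : Subgroup G) ⊓ X) ⊓
          Subgroup.centralizer ((((T : Subgroup G) ⊓ X : Subgroup G)) : Set G))) : Set G) =
      X ⊓ Subgroup.centralizer ((Cfsg.omegaOne p ((T : Subgroup G) ⊓
          Subgroup.centralizer ((T : Subgroup G) : Set G))) : Set G) := by
  induction hX with
  | top => rw [inf_top_eq]
  | step X K hle hK hn ih =>
    have hKX : K ≤ Subgroup.normalizer (X : Set G) :=
      (Subgroup.normal_subgroupOf_iff_le_normalizer hle).mp hn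
    have hXs : X.IsSubnormal := Subgroup.IsSubnormal.step _ _ hle hK hn
    have hneK : (T : Subgroup G) ⊓ K ≠ ⊥ := fun h =>
      hne (eq_bot_iff.mpr (h ▸ inf_le_inf_left _ hle))
    have ihK := ih hneK
    have hTXp : IsPGroup p ↥((T : Subgroup G) ⊓ X) := T.2.to_le inf_le_left
    have hTKp : IsPGroup p ↥((T : Subgroup G) ⊓ K) := T.2.to_le inf_le_left
    have hZXne := omegaOne_center_ne_bot hTXp hne
    have hZKne := omegaOne_center_ne_bot hTKp hneK
    have hZXp : IsPGroup p ↥(Cfsg.omegaOne p (((T : Subgroup G) ⊓ X) ⊓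
          Subgroup.centralizer ((((T : Subgroup G) ⊓ X : Subgroup G)) : Set G))) :=
      hTXp.to_le (fun z hz => (omegaOne_center_spec _ hz).1)
    have hZKp : IsPGroup p ↥(Cfsg.omegaOne p (((T : Subgroup G) ⊓ K) ⊓
          Subgroup.centralizer ((((T : Subgroup G) ⊓ K : Subgroup G)) : Set G))) :=
      hTKp.to_le (fun z hz => (omegaOne_center_spec _ hz).1)
    have hTK_NZX : (T : Subgroup G) ⊓ K ≤ Subgroup.normalizer ((Cfsg.omegaOne p
        (((T : Subgroup G) ⊓ X) ⊓
          Subgroup.centralizer ((((T : Subgroup G) ⊓ X : Subgroup G)) : Set G)) : Subgroup G) :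
            Set G) := by
      apply le_normalizer_of_conj_mem
      intro g hg w hw
      apply conj_mem_omegaOne_center _ hw
      have h1 : (T : Subgroup G) ⊓ K ≤
          Subgroup.normalizer (((T : Subgroup G) ⊓ X : Subgroup G) : Set G) := by
        apply le_normalizer_of_conj_mem
        intro g hg w hw
        exact ⟨Subgroup.mul_mem _ (Subgroup.mul_mem _ hg.1 hw.1) (Subgroup.inv_mem _ hg.1),
          conj_mem_of_mem_normalizer (hKX hg.2) hw.2⟩
      exact h1 hg
    have hTK_NZK : (T : Subgroup G) ⊓ K ≤ Subgroup.normalizer ((Cfsg.omegaOne p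
        (((T : Subgroup G) ⊓ K) ⊓
          Subgroup.centralizer ((((T : Subgroup G) ⊓ K : Subgroup G)) : Set G)) : Subgroup G) :
            Set G) := by
      apply le_normalizer_of_conj_mem
      intro g hg w hw
      exact conj_mem_omegaOne_center (Subgroup.le_normalizer hg) hw
    have step1 := kieler_local_step hG T hXs hK hle hKX hZXp hZXne hTK_NZX
    have step2 := kieler_local_step hG T hXs hK hle hKX hZKp hZKne hTK_NZK
    apply le_antisymm
    · intro x hx
      have h1 : x ∈ (X ⊓ Subgroup.normalizer ((Cfsg.omegaOne p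
        (((T : Subgroup G) ⊓ X) ⊓
          Subgroup.centralizer ((((T : Subgroup G) ⊓ X : Subgroup G)) : Set G)) : Subgroup G) :
            Set G)) ⊓ Subgroup.centralizer ((Cfsg.omegaOne p (((T : Subgroup G) ⊓ X) ⊓
          Subgroup.centralizer ((((T : Subgroup G) ⊓ X : Subgroup G)) : Set G))) : Set G) :=
        ⟨⟨hx.1, Subgroup.centralizer_le_normalizer _ hx.2⟩, hx.2⟩
      rw [← step1] at h1
      have h2 : x ∈ K ⊓ Subgroup.centralizer ((Cfsg.omegaOne p (((T : Subgroup G) ⊓ K) ⊓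
          Subgroup.centralizer ((((T : Subgroup G) ⊓ K : Subgroup G)) : Set G))) : Set G) :=
        ⟨hle hx.1, h1.2⟩
      rw [ihK] at h2
      exact ⟨hx.1, h2.2⟩
    · intro x hx
      have h2 : x ∈ K ⊓ Subgroup.centralizer ((Cfsg.omegaOne p ((T : Subgroup G) ⊓
          Subgroup.centralizer ((T : Subgroup G) : Set G))) : Set G) := ⟨hle hx.1, hx.2⟩
      rw [← ihK] at h2
      have h1 : x ∈ (X ⊓ Subgroup.normalizer ((Cfsg.omegaOne p
        (((T : Subgroup G) ⊓ K) ⊓
          Subgroup.centralizer ((((T : Subgroup G) ⊓ K : Subgroup G)) : Set G)) : Subgroup G) :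
            Set G)) ⊓ Subgroup.centralizer ((Cfsg.omegaOne p (((T : Subgroup G) ⊓ K) ⊓
          Subgroup.centralizer ((((T : Subgroup G) ⊓ K : Subgroup G)) : Set G))) : Set G) :=
        ⟨⟨hx.1, Subgroup.centralizer_le_normalizer _ h2.2⟩, h2.2⟩
      rw [step2] at h1
      exact ⟨hx.1, h1.2⟩

/-- A subnormal subgroup of index prime to `p` contains all `p`-elements. -/
theorem mem_of_subnIn_of_coprime [Finite G] {p : ℕ} {W Y : Subgroup G} (h : V12.SubnIn W Y)
    (hcop : (W.relIndex Y).Coprime p) {x : G} (hx : x ∈ Y) {k : ℕ} (hxk : x ^ p ^ k = 1) :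
    x ∈ W := by
  induction h with
  | refl K => exact hx
  | step W L Y hWL hL hLY ih =>
    have h1 := Subgroup.relIndex_mul_relIndex W L Y hWL hLY.le
    have hc1 : (W.relIndex L).Coprime p := Nat.Coprime.coprime_dvd_left (Dvd.intro _ h1) hcop
    have hc2 : (L.relIndex Y).Coprime p :=
      Nat.Coprime.coprime_dvd_left (Dvd.intro_left _ h1) hcop
    have hxL : x ∈ L := ih hc2 hx
    haveI : (W.subgroupOf L).Normal := (Subgroup.normal_subgroupOf_iff_le_normalizer hWL).mpr hL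
    have h2 : (⟨x, hxL⟩ : ↥L) ^ (W.relIndex L) ∈ W.subgroupOf L := by
      rw [← QuotientGroup.eq_one_iff, QuotientGroup.mk_pow, Subgroup.relIndex,
        Subgroup.index_eq_card]
      exact pow_card_eq_one'
    have h3 : x ^ (W.relIndex L) ∈ W := by
      have := Subgroup.mem_subgroupOf.mp h2
      simpa using this
    have hc3 : (W.relIndex L).Coprime (orderOf x) := by
      have : orderOf x ∣ p ^ k := orderOf_dvd_of_pow_eq_one hxk
      exact Nat.Coprime.coprime_dvd_right this (Nat.Coprime.pow_right k hc1)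
    obtain ⟨j, hj⟩ := exists_pow_eq_self_of_coprime hc3
    rw [← hj]
    exact W.pow_mem h3 j

/-- In a group of local characteristic `p`, the point stabilizer of a subnormal subgroup `X` with
respect to `T ∩ X` is generated by the `p`-elements of `C_X(Ω₁(Z(T)))`. -/
theorem pointStabilizer_eq [Finite G] {p : ℕ} [Fact p.Prime]
    (hG : Cfsg.IsOfLocalCharacteristic p G) (T : Sylow p G) {X : Subgroup G}
    (hX : X.IsSubnormal) :
    Cfsg.pointStabilizer p X ((T : Subgroup G) ⊓ X) =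
      Subgroup.closure {x : G | x ∈ X ⊓ Subgroup.centralizer (Cfsg.omegaOne p ((T : Subgroup G) ⊓
        Subgroup.centralizer ((T : Subgroup G) : Set G)) : Set G) ∧ ∃ k : ℕ, orderOf x = p ^ k} := by
  unfold Cfsg.pointStabilizer
  by_cases hne : (T : Subgroup G) ⊓ X = ⊥
  · have h1 : ∀ x ∈ X, (∃ k : ℕ, orderOf x = p ^ k) → x = 1 := by
      rintro x hx ⟨k, hk⟩
      have hcop := coprime_relIndex_of_isSubnormal T hX
      rw [hne, Subgroup.relIndex_bot_left] at hcop
      have h2 : orderOf x ∣ Nat.card ↥X := Subgroup.orderOf_dvd_natCard X hx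
      have h3 : (orderOf x).Coprime p := Nat.Coprime.coprime_dvd_left h2 hcop
      exact eq_one_of_coprime_of_pow h3 (k := k) (by rw [← hk]; exact pow_orderOf_eq_one x)
    congr 1
    ext x
    constructor
    · rintro ⟨hx, hk⟩
      have h2 := h1 x hx.1 hk
      subst h2
      exact ⟨Subgroup.one_mem _, hk⟩
    · rintro ⟨hx, hk⟩
      have h2 := h1 x hx.1 hk
      subst h2
      exact ⟨Subgroup.one_mem _, hk⟩
  · rw [kieler_local hG T hX hne]

/-- The point stabilizer of the join of two subnormal subgroups of a group of local characteristic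
`p` is generated by the point stabilizers of the two subgroups. -/
theorem pointStabilizer_sup [Finite G] {p : ℕ} [Fact p.Prime]
    (hG : Cfsg.IsOfLocalCharacteristic p G) (T : Sylow p G) {L₁ L₂ : Subgroup G}
    (h₁ : L₁.IsSubnormal) (h₂ : L₂.IsSubnormal) :
    Cfsg.pointStabilizer p (L₁ ⊔ L₂) ((T : Subgroup G) ⊓ (L₁ ⊔ L₂)) =
      Cfsg.pointStabilizer p L₁ ((T : Subgroup G) ⊓ L₁) ⊔
        Cfsg.pointStabilizer p L₂ ((T : Subgroup G) ⊓ L₂) := by
  have hL : (L₁ ⊔ L₂).IsSubnormal := V12.isSubnormal_sup h₁ h₂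
  rw [pointStabilizer_eq hG T hL, pointStabilizer_eq hG T h₁, pointStabilizer_eq hG T h₂]
  have hTC : (T : Subgroup G) ≤ Subgroup.centralizer (Cfsg.omegaOne p ((T : Subgroup G) ⊓
        Subgroup.centralizer ((T : Subgroup G) : Set G)) : Set G) := by
    intro t ht
    refine Subgroup.mem_centralizer_iff.mpr ?_
    intro z hz
    have h1 := (omegaOne_center_spec _ hz).2.1
    exact ((Subgroup.mem_centralizer_iff.mp h1) t ht).symm
  generalize Subgroup.centralizer (Cfsg.omegaOne p ((T : Subgroup G) ⊓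
        Subgroup.centralizer ((T : Subgroup G) : Set G)) : Set G) = C at hTC ⊢
  have hWsub : ∀ X : Subgroup G, X.IsSubnormal →
      V12.SubnIn (Subgroup.closure {x : G | x ∈ X ⊓ C ∧ ∃ k : ℕ, orderOf x = p ^ k}) C := by
    intro X hX
    have h1 : V12.SubnIn (X ⊓ C) C := (V12.SubnIn.of_isSubnormal hX).inf_right C le_top
    refine V12.SubnIn.step _ (X ⊓ C) C ?_ ?_ h1
    · rw [Subgroup.closure_le]
      intro x hx
      exact hx.1
    · apply le_normalizer_of_conj_mem
      intro g hg w hw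
      have h2 : Subgroup.closure {x : G | x ∈ X ⊓ C ∧ ∃ k : ℕ, orderOf x = p ^ k} ≤
          (Subgroup.closure {x : G | x ∈ X ⊓ C ∧ ∃ k : ℕ, orderOf x = p ^ k}).comap
            (MulAut.conj g).toMonoidHom := by
        rw [Subgroup.closure_le]
        intro x hx
        apply Subgroup.subset_closure
        refine ⟨(X ⊓ C).mul_mem ((X ⊓ C).mul_mem hg hx.1) ((X ⊓ C).inv_mem hg), ?_⟩
        obtain ⟨k, hk⟩ := hx.2
        exact ⟨k, by rw [← hk]; exact orderOf_conj' g x⟩
      exact h2 hw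
  have hTW : ∀ X : Subgroup G, X ⊓ (T : Subgroup G) ≤
      Subgroup.closure {x : G | x ∈ X ⊓ C ∧ ∃ k : ℕ, orderOf x = p ^ k} := by
    intro X t ht
    apply Subgroup.subset_closure
    refine ⟨⟨ht.1, hTC ht.2⟩, ?_⟩
    obtain ⟨k, hk⟩ := (IsPGroup.iff_orderOf.mp T.2) ⟨t, ht.2⟩
    rw [Subgroup.orderOf_mk] at hk
    exact ⟨k, hk⟩
  apply le_antisymm
  · rw [Subgroup.closure_le]
    intro x hx
    obtain ⟨k, hk⟩ := hx.2
    have hW := (hWsub L₁ h₁).sup (hWsub L₂ h₂)
    have hWle : Subgroup.closure {x : G | x ∈ L₁ ⊓ C ∧ ∃ k : ℕ, orderOf x = p ^ k} ⊔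
        Subgroup.closure {x : G | x ∈ L₂ ⊓ C ∧ ∃ k : ℕ, orderOf x = p ^ k} ≤ (L₁ ⊔ L₂) ⊓ C := by
      apply sup_le
      · rw [Subgroup.closure_le]
        intro y hy
        exact ⟨Subgroup.mem_sup_left hy.1.1, hy.1.2⟩
      · rw [Subgroup.closure_le]
        intro y hy
        exact ⟨Subgroup.mem_sup_right hy.1.1, hy.1.2⟩
    have hW' := hW.of_le hWle inf_le_right
    have hTL : (L₁ ⊔ L₂) ⊓ (T : Subgroup G) ≤
        Subgroup.closure {x : G | x ∈ L₁ ⊓ C ∧ ∃ k : ℕ, orderOf x = p ^ k} ⊔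
        Subgroup.closure {x : G | x ∈ L₂ ⊓ C ∧ ∃ k : ℕ, orderOf x = p ^ k} := by
      rw [sylowJoin_sup T h₁ h₂]
      exact sup_le_sup (hTW L₁) (hTW L₂)
    have hcop : ((Subgroup.closure {x : G | x ∈ L₁ ⊓ C ∧ ∃ k : ℕ, orderOf x = p ^ k} ⊔
        Subgroup.closure {x : G | x ∈ L₂ ⊓ C ∧ ∃ k : ℕ, orderOf x = p ^ k}).relIndex
          ((L₁ ⊔ L₂) ⊓ C)).Coprime p := by
      have h1 := coprime_relIndex_of_isSubnormal T hL
      rw [inf_comm] at h1
      have h2 := Subgroup.relIndex_mul_relIndex ((L₁ ⊔ L₂) ⊓ (T : Subgroup G)) ((L₁ ⊔ L₂) ⊓ C)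
        (L₁ ⊔ L₂) (inf_le_inf_left _ hTC) inf_le_left
      have h3 : (((L₁ ⊔ L₂) ⊓ (T : Subgroup G)).relIndex ((L₁ ⊔ L₂) ⊓ C)).Coprime p :=
        Nat.Coprime.coprime_dvd_left (Dvd.intro _ h2) h1
      exact Nat.Coprime.coprime_dvd_left (Subgroup.relIndex_dvd_of_le_left _ hTL) h3
    exact mem_of_subnIn_of_coprime hW' hcop hx.1 (k := k)
      (by rw [← hk]; exact pow_orderOf_eq_one x)
  · apply sup_le
    · apply Subgroup.closure_mono
      intro x hx
      exact ⟨⟨Subgroup.mem_sup_left hx.1.1, hx.1.2⟩, hx.2⟩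
    · apply Subgroup.closure_mono
      intro x hx
      exact ⟨⟨Subgroup.mem_sup_right hx.1.1, hx.1.2⟩, hx.2⟩

end Cfsg.Agent.H52
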